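import Cfsg.Agent.Lib.FiniteGroup.OpFpf.Reduction

/-!
A solvable group with a fixed-point-free elementary abelian operator group of order `p ^ 2` has
Fitting height at most two.
-/

set_option autoImplicit false
set_option linter.style.haveILetI false
set_option linter.unusedSectionVars false

namespace Cfsg.Agent.OpFpf

open scoped commutatorElement BigOperators

universe u v

namespace Rep

variable {A H : Type*} [Group A] [Group H] {W : Type*} [AddCommGroup W] {ψ : A →* MulAut H}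
  {R : Rep ψ W} {p q r : ℕ} {Q T : Subgroup H}

/-- The minimal configuration: the group is `Q T` with `T` not centralizing `Q`. -/
structure IsWard (R : Rep ψ W) (p q r : ℕ) (Q T : Subgroup H) : Prop where
  hp : p.Prime
  hq : q.Prime
  hr : r.Prime
  cardA : Nat.card A = p ^ 2
  expA : ∀ a : A, a ^ p = 1
  commA : ∀ a b : A, a * b = b * a
  fpfH : Fpf ψ
  centr : ∀ c, c ≠ 1 → ∀ h v, ψ c h = h → (orderOf h).Coprime (Nat.card W) → R.σ c v = v →
    R.ρ h v = v
  trivC : ∀ c, c ≠ 1 → (∀ h, ψ c h = h) → ∀ t ∈ T, ∀ u ∈ Q, t * u = u * t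
  Qn : Q.Normal
  Qi : Inv ψ Q
  Qp : IsPGroup q Q
  Qcop : (Nat.card Q).Coprime (Nat.card W)
  Ti : Inv ψ T
  Tp : IsPGroup r T
  qr : q ≠ r
  top : ∀ h, ∃ u ∈ Q, ∃ t ∈ T, h = u * t
  minT : ∀ K ≤ T, Inv ψ K → K ≠ T → ∀ t ∈ K, ∀ u ∈ Q, t * u = u * t
  minQ : ∀ K ≤ Q, Inv ψ K → (∀ t ∈ T, ∀ u ∈ K, t * u * t⁻¹ ∈ K) → K ≠ Q →
    ∀ t ∈ T, ∀ u ∈ K, t * u = u * t
  ncom : ¬ ∀ t ∈ T, ∀ u ∈ Q, t * u = u * t

section Operators

variable (F : R.IsWard p q r Q T)

include F

theorem IsWard.order {c : A} (hc : c ≠ 1) : orderOf c = p :=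
  haveI := Fact.mk F.hp
  orderOf_eq_prime (F.expA c) hc

theorem IsWard.zp_symm {c d : A} (hc : c ≠ 1) (h : c ∈ Subgroup.zpowers d) :
    d ∈ Subgroup.zpowers c := by
  haveI := R.finA
  by_cases hd : d = 1
  · rw [hd]; exact one_mem _
  have he : Subgroup.zpowers c = Subgroup.zpowers d :=
    Subgroup.eq_of_le_of_card_ge (Subgroup.zpowers_le.2 h)
      (by rw [Nat.card_zpowers, Nat.card_zpowers, F.order hc, F.order hd])
  rw [he]
  exact Subgroup.mem_zpowers d

theorem IsWard.gen_two {a b : A} (ha : a ≠ 1) (hb : b ∉ Subgroup.zpowers a) {S : Subgroup A}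
    (haS : a ∈ S) (hbS : b ∈ S) : S = ⊤ := by
  haveI := R.finA
  have hle : Subgroup.zpowers a ≤ S := Subgroup.zpowers_le.2 haS
  have hd : Nat.card S ∣ p ^ 2 := F.cardA ▸ Subgroup.card_subgroup_dvd_card S
  obtain ⟨k, hk2, hk⟩ := (Nat.dvd_prime_pow F.hp).1 hd
  refine Subgroup.eq_top_of_card_eq S ?_
  rw [F.cardA, hk]
  rcases Nat.lt_or_ge k 2 with hlt | hge
  · exfalso
    refine hb ?_
    have hle2 : Nat.card S ≤ Nat.card (Subgroup.zpowers a) := by
      rw [Nat.card_zpowers, F.order ha, hk]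
      exact le_trans (Nat.pow_le_pow_right F.hp.pos (Nat.le_of_lt_succ hlt)) (by rw [pow_one])
    rw [Subgroup.eq_of_le_of_card_ge hle hle2]
    exact hbS
  · rw [le_antisymm hk2 hge]

theorem IsWard.exists_outside (a : A) : ∃ b : A, b ∉ Subgroup.zpowers a := by
  haveI := R.finA
  by_contra h
  push Not at h
  have h1 : Nat.card A ≤ p := by
    rw [← orderOf_eq_card_of_forall_mem_zpowers h]
    exact Nat.le_of_dvd F.hp.pos (orderOf_dvd_of_pow_eq_one (F.expA a))
  rw [F.cardA] at h1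
  exact absurd h1 (by
    have := Nat.pow_lt_pow_right F.hp.one_lt (show 1 < 2 by norm_num)
    rw [pow_one] at this
    omega)

theorem IsWard.act_comm (a b : A) (x : H) : ψ a (ψ b x) = ψ b (ψ a x) := by
  rw [← act_mul, F.commA, act_mul]

/-- Fixed elements of two independent operators are trivial. -/
theorem IsWard.eq_one_of_fixed_two {a b : A} (ha : a ≠ 1) (hb : b ∉ Subgroup.zpowers a) {x : H}
    (hax : ψ a x = x) (hbx : ψ b x = x) : x = 1 := by
  let S : Subgroup A :=
    { carrier := {c | ψ c x = x}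
      one_mem' := act_one ψ x
      mul_mem' := fun {c d} hc hd => by
        simp only [Set.mem_ofPred_eq] at hc hd ⊢
        rw [act_mul, hd, hc]
      inv_mem' := fun {c} hc => by
        simp only [Set.mem_ofPred_eq] at hc ⊢
        nth_rw 1 [← hc]
        rw [act_inv_act] }
  exact F.fpfH x fun c => (F.gen_two ha hb (S := S) hax hbx ▸ Subgroup.mem_top c : c ∈ S)

theorem IsWard.coprime_p : (Nat.card H).Coprime p :=
  R.copAH.coprime_dvd_right (F.cardA ▸ dvd_pow_self p two_ne_zero)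

theorem IsWard.coprime_sub (K : Subgroup H) : p.Coprime (Nat.card K) := by
  haveI := R.finH
  exact (F.coprime_p.coprime_dvd_left (Subgroup.card_subgroup_dvd_card K)).symm

/-- The fixed subgroup of an operator. -/
def opFixed (ψ : A →* MulAut H) (c : A) : Subgroup H :=
  MonoidHom.eqLocus (ψ c).toMonoidHom (MonoidHom.id H)

omit F in
theorem mem_opFixed {c : A} {x : H} : x ∈ opFixed ψ c ↔ ψ c x = x := Iff.rfl

theorem IsWard.inv_opFixed (c : A) : Inv ψ (opFixed ψ c) := fun a x hx => by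
  rw [mem_opFixed] at hx ⊢
  rw [F.act_comm, hx]

theorem IsWard.fixed_of_zpowers {c d : A} (hd : d ∈ Subgroup.zpowers c) {x : H}
    (hx : ψ c x = x) : ψ d x = x := by
  obtain ⟨k, rfl⟩ := Subgroup.mem_zpowers_iff.1 hd
  have : ψ c ∈ MulAction.stabilizer (MulAut H) x := hx
  rw [map_zpow]
  exact Subgroup.zpow_mem _ this k

/-- Some non-trivial operator centralizes `T`. -/
theorem IsWard.exists_triv : ∃ a, a ≠ 1 ∧ ∀ t ∈ T, ψ a t = t := by
  haveI := R.finA
  haveI := R.finH
  haveI := Fact.mk F.hp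
  haveI := Fact.mk F.hr
  haveI : Group.IsNilpotent T := F.Tp.isNilpotent
  by_contra hcon
  push Not at hcon
  refine F.ncom fun t ht u hu => ?_
  have htop := generated (restrict ψ T F.Ti) F.cardA F.expA (F.coprime_sub T)
    ((Subgroup.centralizer (Q : Set H)).subgroupOf T) fun c hc x hx => by
      obtain ⟨t₀, ht₀, ht₀'⟩ := hcon c hc
      refine Subgroup.mem_centralizer_iff.2 fun u hu => ?_
      exact (F.minT (T ⊓ opFixed ψ c) inf_le_left (inv_inf ψ F.Ti (F.inv_opFixed c))
        (fun h => ht₀' (mem_opFixed.1 (h.ge ht₀).2)) x ⟨x.2, congrArg Subtype.val hx⟩ u hu).symm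
  have : (⟨t, ht⟩ : T) ∈ (Subgroup.centralizer (Q : Set H)).subgroupOf T := htop ▸ Subgroup.mem_top _
  exact (Subgroup.mem_centralizer_iff.1 this u hu).symm

/-- An operator independent of the trivial one gives every element of `T` as a commutator. -/
theorem IsWard.exists_commutator {a c : A} (ha : a ≠ 1) (haT : ∀ t ∈ T, ψ a t = t)
    (hc : c ∉ Subgroup.zpowers a) {t : H} (ht : t ∈ T) : ∃ s ∈ T, s⁻¹ * ψ c s = t := by
  haveI := R.finH
  let f : T → T := fun s => ⟨(s : H)⁻¹ * ψ c s, mul_mem (inv_mem s.2) (F.Ti c s s.2)⟩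
  have hf : Function.Injective f := by
    intro x y h
    have h' : (x : H)⁻¹ * ψ c x = (y : H)⁻¹ * ψ c y := congrArg Subtype.val h
    have h1 : ψ c ((y : H) * (x : H)⁻¹) = (y : H) * (x : H)⁻¹ := by
      rw [map_mul, map_inv (ψ c)]
      calc ψ c (y : H) * (ψ c (x : H))⁻¹
          = (y : H) * ((y : H)⁻¹ * ψ c y) * ((x : H)⁻¹ * ψ c x)⁻¹ * (x : H)⁻¹ := by group
        _ = _ := by rw [h', mul_inv_cancel_right]
    exact Subtype.ext (mul_inv_eq_one.1
      (F.eq_one_of_fixed_two ha hc (haT _ (mul_mem y.2 (inv_mem x.2))) h1)).symm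
  obtain ⟨s, hs⟩ := Finite.injective_iff_surjective.1 hf ⟨t, ht⟩
  exact ⟨s, s.2, congrArg Subtype.val hs⟩

/-- `Q` is generated by its commutators with `T`. -/
theorem IsWard.le_of_comm {X : Subgroup H} (hX : ∀ t ∈ T, ∀ u ∈ Q, t * u * t⁻¹ * u⁻¹ ∈ X) :
    Q ≤ X := by
  haveI := R.finH
  set C := Subgroup.closure {x | ∃ t ∈ T, ∃ u ∈ Q, t * u * t⁻¹ * u⁻¹ = x} with hC
  have hmem : ∀ t ∈ T, ∀ u ∈ Q, t * u * t⁻¹ * u⁻¹ ∈ C := fun t ht u hu =>
    Subgroup.subset_closure ⟨t, ht, u, hu, rfl⟩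
  have hCQ : C ≤ Q := by
    rw [hC, Subgroup.closure_le]
    rintro _ ⟨t, _, u, hu, rfl⟩
    exact mul_mem (F.Qn.conj_mem u hu t) (inv_mem hu)
  have hCi : Inv ψ C := by
    refine inv_closure ψ ?_
    rintro a _ ⟨t, ht, u, hu, rfl⟩
    rw [map_mul, map_mul, map_mul, map_inv (ψ a), map_inv (ψ a)]
    exact hmem _ (F.Ti a t ht) _ (F.Qi a u hu)
  have hCT : ∀ t ∈ T, ∀ x ∈ C, t * x * t⁻¹ ∈ C := by
    intro s hs x hx
    refine (Subgroup.closure_le (K := C.comap (MulAut.conj s).toMonoidHom)).2 ?_ hx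
    rintro _ ⟨t, ht, u, hu, rfl⟩
    change s * (t * u * t⁻¹ * u⁻¹) * s⁻¹ ∈ C
    rw [show s * (t * u * t⁻¹ * u⁻¹) * s⁻¹ =
      (s * t) * u * (s * t)⁻¹ * u⁻¹ * (s * u * s⁻¹ * u⁻¹)⁻¹ by group]
    exact mul_mem (hmem _ (mul_mem hs ht) u hu) (inv_mem (hmem s hs u hu))
  by_cases hCQ' : C = Q
  · rw [← hCQ', hC, Subgroup.closure_le]
    rintro _ ⟨t, ht, u, hu, rfl⟩
    exact hX t ht u hu
  refine (F.ncom fun t ht u hu => ?_).elim
  set w := t * u * t⁻¹ * u⁻¹ with hw
  have hcw : Commute t w := F.minQ C hCQ hCi hCT hCQ' t ht w (hmem t ht u hu)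
  have hiter : ∀ i : ℕ, t ^ i * u * (t ^ i)⁻¹ = w ^ i * u := by
    intro i
    induction i with
    | zero => simp
    | succ i ihi =>
      rw [pow_succ' t, show t * t ^ i * u * (t * t ^ i)⁻¹ =
        t * (t ^ i * u * (t ^ i)⁻¹) * t⁻¹ by group, ihi,
        ← mul_assoc, (hcw.pow_right i).eq, pow_succ w, hw]
      group
  have hord := hiter (orderOf t)
  rw [pow_orderOf_eq_one, one_mul, inv_one, mul_one, eq_comm, mul_eq_right] at hord
  haveI := Fact.mk F.hq
  haveI := Fact.mk F.hr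
  obtain ⟨i, hi⟩ := IsPGroup.iff_orderOf.1 F.Qp ⟨w, hCQ (hmem t ht u hu)⟩
  obtain ⟨j, hj⟩ := IsPGroup.iff_orderOf.1 F.Tp ⟨t, ht⟩
  rw [Subgroup.orderOf_mk] at hi hj
  have hw1 : w = 1 := orderOf_eq_one_iff.1 (Nat.eq_one_of_dvd_coprimes
    (((Nat.coprime_primes F.hr F.hq).2 F.qr.symm).pow j i) (hj ▸ orderOf_dvd_of_pow_eq_one hord)
    (hi ▸ dvd_rfl))
  rw [hw, mul_inv_eq_one, mul_inv_eq_iff_eq_mul] at hw1
  exact hw1

/-- An operator trivial on `Q` modulo a `T`-stable subgroup forces `Q` into that subgroup. -/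
theorem IsWard.le_of_triv {a c : A} (ha : a ≠ 1) (haT : ∀ t ∈ T, ψ a t = t)
    (hc : c ∉ Subgroup.zpowers a) {K : Subgroup H} (hK : ∀ t ∈ T, ∀ x ∈ K, t * x * t⁻¹ ∈ K)
    (htriv : ∀ u ∈ Q, u * (ψ c u)⁻¹ ∈ K) : Q ≤ K := by
  refine F.le_of_comm fun t ht u hu => ?_
  obtain ⟨s, hs, rfl⟩ := F.exists_commutator ha haT hc ht
  have h1 := hK _ (inv_mem hs) _ (htriv (s * u * s⁻¹) (F.Qn.conj_mem u hu s))
  have h2 := hK _ ht _ (htriv u hu)
  have h3 := mul_mem h2 (inv_mem h1)
  convert h3 using 1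
  rw [map_mul, map_mul, map_inv (ψ c)]
  group

theorem IsWard.Q_nontrivial : Nontrivial Q := by
  rw [Subgroup.nontrivial_iff_ne_bot]
  intro h
  refine F.ncom fun t _ u hu => ?_
  rw [h, Subgroup.mem_bot] at hu
  rw [hu, mul_one, one_mul]

theorem IsWard.commutator_lt : ⁅Q, Q⁆ ≠ Q := by
  haveI := R.finH
  haveI := Fact.mk F.hq
  haveI := F.Q_nontrivial
  haveI : Group.IsNilpotent Q := F.Qp.isNilpotent
  intro h
  refine (Group.IsSolvable.commutator_lt_top_of_nontrivial Q).ne
    (Subgroup.map_injective Q.subtype_injective ?_)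
  rw [commutator_def, Subgroup.map_commutator, ← MonoidHom.range_eq_map, Subgroup.range_subtype, h]

theorem IsWard.commutator_central {z : H} (hz : z ∈ ⁅Q, Q⁆) (h : H) : h * z = z * h := by
  haveI := F.Qn
  have hTz : ∀ t ∈ T, ∀ y ∈ ⁅Q, Q⁆, t * y = y * t :=
    F.minQ ⁅Q, Q⁆ (Subgroup.commutator_le_left Q Q) (inv_commutator ψ F.Qi F.Qi)
      (fun t _ y hy => (inferInstance : (⁅Q, Q⁆).Normal).conj_mem y hy t) F.commutator_lt
  have hle : Q ≤ Subgroup.centralizer {z} := by
    refine F.le_of_comm fun t ht u hu => ?_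
    rw [Subgroup.mem_centralizer_singleton_iff]
    have hu' : u⁻¹ * z * u ∈ ⁅Q, Q⁆ := by
      simpa using (inferInstance : (⁅Q, Q⁆).Normal).conj_mem z hz u⁻¹
    have h1 := hTz t⁻¹ (inv_mem ht) z hz
    have h2 := hTz t⁻¹ (inv_mem ht) _ hu'
    calc t * u * t⁻¹ * u⁻¹ * z = t * u * (t⁻¹ * (u⁻¹ * z * u)) * u⁻¹ := by group
      _ = t * z * (u * t⁻¹ * u⁻¹) := by rw [h2]; group
      _ = z * (t * u * t⁻¹ * u⁻¹) := by rw [hTz t ht z hz]; group
  obtain ⟨u, hu, t, ht, rfl⟩ := F.top h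
  rw [mul_assoc, hTz t ht z hz, ← mul_assoc,
    Subgroup.mem_centralizer_singleton_iff.1 (hle hu), mul_assoc]

theorem IsWard.mem_commutator_of_centralized {x : H} (hx : x ∈ Q)
    (hc : ∀ t ∈ T, t * x = x * t) : x ∈ ⁅Q, Q⁆ := by
  classical
  haveI := R.finH
  haveI := Fintype.ofFinite T
  haveI := F.Qn
  haveI : Finite (Abelianization Q) := Finite.of_surjective _ QuotientGroup.mk_surjective
  let n : Q →* Abelianization Q :=
    { toFun := fun u => ∏ t : T, Abelianization.of (MulAut.conjNormal (t : H) u)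
      map_one' := Finset.prod_eq_one fun t _ => by rw [map_one, map_one]
      map_mul' := fun u w => by simp only [map_mul, Finset.prod_mul_distrib] }
  have hn : ∀ (s : T) (u : Q), n (MulAut.conjNormal (s : H) u) = n u := fun s u => by
    refine Fintype.prod_equiv (Equiv.mulRight s) _ _ fun t => ?_
    simp only [Equiv.coe_mulRight, Subgroup.coe_mul, map_mul]
    rfl
  have hone : ∀ u : Q, n u = 1 := by
    intro u
    have hle : Q ≤ n.ker.map Q.subtype := by
      refine F.le_of_comm fun t ht w hw => ⟨MulAut.conjNormal t ⟨w, hw⟩ * ⟨w, hw⟩⁻¹, ?_, ?_⟩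
      · rw [SetLike.mem_coe, MonoidHom.mem_ker, map_mul, map_inv, hn ⟨t, ht⟩, mul_inv_cancel]
      · rfl
    obtain ⟨y, hy, hyu⟩ := hle u.2
    have e : y = u := Subtype.ext hyu
    exact e ▸ hy
  have h1 : Abelianization.of (⟨x, hx⟩ : Q) ^ Nat.card T = 1 := by
    rw [← hone ⟨x, hx⟩, Nat.card_eq_fintype_card, ← Finset.card_univ, ← Finset.prod_const]
    refine Finset.prod_congr rfl fun t _ => congrArg _ (Subtype.ext ?_)
    rw [MulAut.conjNormal_apply]
    exact (mul_inv_eq_iff_eq_mul.2 (hc t t.2)).symm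
  haveI := Fact.mk F.hq
  haveI := Fact.mk F.hr
  obtain ⟨i, hi⟩ := IsPGroup.iff_card.1 F.Qp
  obtain ⟨j, hj⟩ := IsPGroup.iff_card.1 F.Tp
  have hcop : (Nat.card (Abelianization Q)).Coprime (Nat.card T) := by
    refine Nat.Coprime.coprime_dvd_left
      (Subgroup.card_dvd_of_surjective Abelianization.of QuotientGroup.mk_surjective) ?_
    rw [hi, hj]
    exact ((Nat.coprime_primes F.hq F.hr).2 F.qr).pow i j
  have h2 := S3Fpf.eq_one_of_pow_eq_one hcop h1
  rw [← MonoidHom.mem_ker, Abelianization.ker_of] at h2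
  rw [← Subgroup.map_subtype_commutator]
  exact ⟨_, h2, rfl⟩

/-- Elements of `Q` fixed by the operator trivial on `T` lie in the derived subgroup. -/
theorem IsWard.fixed_mem_commutator {a : A} (ha : a ≠ 1) (haT : ∀ t ∈ T, ψ a t = t) {x : H}
    (hx : x ∈ Q) (hax : ψ a x = x) : x ∈ ⁅Q, Q⁆ := by
  have hne : Q ⊓ opFixed ψ a ≠ Q := by
    intro h
    refine F.ncom (F.trivC a ha fun h' => ?_)
    obtain ⟨u, hu, t, ht, rfl⟩ := F.top h'
    rw [map_mul, haT t ht, mem_opFixed.1 (h.ge hu).2]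
  refine F.mem_commutator_of_centralized hx fun t ht =>
    F.minQ (Q ⊓ opFixed ψ a) inf_le_left (inv_inf ψ F.Qi (F.inv_opFixed a))
      (fun s hs u hu => ⟨F.Qn.conj_mem u hu.1 s, ?_⟩) hne t ht x ⟨hx, hax⟩
  change ψ a (s * u * s⁻¹) = s * u * s⁻¹
  rw [map_mul, map_mul, map_inv (ψ a), haT s hs, mem_opFixed.1 hu.2]

section Components

variable {N : Subgroup H} (hNn : N.Normal) (hNi : Inv ψ N)
  (hNc : ∀ x ∈ N, ∀ y ∈ N, x * y = y * x)

include hNn hNi hNc

theorem IsWard.stab_cases {B : Subgroup H} (hB : R.IsMax N B) :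
    opStab ψ B = ⊤ ∨ ∃ c, c ≠ 1 ∧ c ∈ opStab ψ B ∧
      (∀ d ∈ opStab ψ B, d ∈ Subgroup.zpowers c) ∧
      ∀ v ∈ R.fix B, R.σ c v = v → v = 0 := by
  obtain ⟨⟨c, hc⟩, hc1⟩ :=
    Subgroup.ne_bot_iff_exists_ne_one.1 (R.opStab_ne_bot hNn hNi hNc hB)
  have hc1' : c ≠ 1 := fun h => hc1 (Subtype.ext h)
  by_cases hall : ∀ d ∈ opStab ψ B, d ∈ Subgroup.zpowers c
  · exact Or.inr ⟨c, hc1', hc, hall, fun v hv hcv =>
      R.no_fixed hNn hNi hNc hB hv fun d hd => R.σ_fix_of_mem_zpowers (hall d hd) hcv⟩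
  · push Not at hall
    obtain ⟨d, hd, hd'⟩ := hall
    exact Or.inl (F.gen_two hc1' hd' hc hd)

/-- The stabilizing operator centralizes abelian stable subgroups modulo the kernel. -/
theorem IsWard.triv_of_proper {B : Subgroup H} (hB : R.IsMax N B) {c : A} (hc1 : c ≠ 1)
    (hc : c ∈ opStab ψ B) (h0 : ∀ v ∈ R.fix B, R.σ c v = v → v = 0) {n : H} (hn : n ∈ N) :
    n * (ψ c n)⁻¹ ∈ B :=
  R.mem_of_fix_all hB (mul_mem hn (inv_mem (hNi c n hn))) fun _ hu =>
    R.act_fix F.hp (F.order hc1) hNc (fun x hx => hNi c x hx) (R.coprime_abelian hNn hNi hNc)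
      (fun v hv => mem_opStab.1 hc ▸ R.fix_act c hv)
      (fun x hx v hv => R.fix_stable hNc hB.1 hx hv) h0 hn hu

end Components

/-- The abelian case. -/
theorem IsWard.false_of_abelian [Nontrivial W] (hD : ⁅Q, Q⁆ = ⊥) : False := by
  haveI := R.finA
  haveI := R.finH
  haveI := F.Qn
  haveI := F.Q_nontrivial
  haveI := Fact.mk F.hq
  have hQc : ∀ x ∈ Q, ∀ y ∈ Q, x * y = y * x := fun x hx y hy => by
    rw [← commutatorElement_eq_one_iff_mul_comm, ← Subgroup.mem_bot, ← hD]
    exact Subgroup.commutator_mem_commutator hx hy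
  obtain ⟨a, ha, haT⟩ := F.exists_triv
  have hCa : ∀ x ∈ Q, ψ a x = x → x = 1 := fun x hx hax => by
    have := F.fixed_mem_commutator ha haT hx hax
    rwa [hD, Subgroup.mem_bot] at this
  have hQB : ∀ {B : Subgroup H}, R.IsMax Q B → ¬ Q ≤ B := fun hB => R.isMax_lt F.Qn F.Qi hB
  -- a component stabilized by `a` is stable under all operators
  have hastab : ∀ {B : Subgroup H}, R.IsMax Q B → a ∈ opStab ψ B → opStab ψ B = ⊤ := by
    intro B hB haB
    refine (F.stab_cases F.Qn F.Qi hQc hB).resolve_right ?_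
    rintro ⟨c, -, -, hsub, h0⟩
    have h0' : ∀ v ∈ R.fix B, R.σ a v = v → v = 0 := fun v hv hav =>
      h0 v hv (R.σ_fix_of_mem_zpowers (F.zp_symm ha (hsub a haB)) hav)
    let f : Q → Q := fun n => ⟨(n : H) * (ψ a n)⁻¹, mul_mem n.2 (inv_mem (F.Qi a _ n.2))⟩
    have hf : Function.Injective f := by
      intro x y h
      have h' : (x : H) * (ψ a x)⁻¹ = (y : H) * (ψ a y)⁻¹ := congrArg Subtype.val h
      have h1 : ψ a ((y : H)⁻¹ * x) = (y : H)⁻¹ * x := by
        rw [map_mul, map_inv (ψ a)]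
        calc (ψ a (y : H))⁻¹ * ψ a x = (y : H)⁻¹ * ((y : H) * (ψ a y)⁻¹) * ψ a x := by group
          _ = (y : H)⁻¹ * x := by rw [← h']; group
      exact Subtype.ext (inv_mul_eq_one.1 (hCa _ (mul_mem (inv_mem y.2) x.2) h1)).symm
    refine hQB hB fun n hn => ?_
    obtain ⟨m, hm⟩ := Finite.injective_iff_surjective.1 hf ⟨n, hn⟩
    have hm' : (m : H) * (ψ a m)⁻¹ = n := congrArg Subtype.val hm
    rw [← hm']
    exact F.triv_of_proper F.Qn F.Qi hQc hB ha haB h0' m.2
  by_cases hex : ∃ B, R.IsMax Q B ∧ opStab ψ B = ⊤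
  · obtain ⟨B, hB, hBtop⟩ := hex
    have hall : ∀ c, mp (ψ c) B = B := fun c => mem_opStab.1 (hBtop ▸ Subgroup.mem_top c)
    obtain ⟨b, hb⟩ := F.exists_outside a
    have hTB : ∀ t ∈ T, t ∈ conjStab B := by
      intro t ht
      obtain ⟨s, hs, rfl⟩ := F.exists_commutator ha haT hb ht
      have h1 : opStab ψ (mp (MulAut.conj s) B) = ⊤ := by
        refine hastab (R.isMax_conj F.Qn s hB) ?_
        rw [mem_opStab, mp_comm, haT s hs, hall]
      have h2 : mp (ψ b) (mp (MulAut.conj s) B) = mp (MulAut.conj s) B :=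
        mem_opStab.1 (h1 ▸ Subgroup.mem_top b)
      rw [mp_comm, hall] at h2
      rw [mem_conjStab, map_mul, ← mp_mp, h2, mp_mp, ← map_mul, inv_mul_cancel, map_one, mp_one]
    have hQB' : ∀ u ∈ Q, mp (MulAut.conj u) B = B := by
      intro u hu
      ext x
      constructor
      · rintro ⟨y, hy, rfl⟩
        change u * y * u⁻¹ ∈ B
        rwa [hQc u hu y (hB.1 hy), mul_inv_cancel_right]
      · intro hx
        refine ⟨x, hx, ?_⟩
        change u * x * u⁻¹ = x
        rw [hQc u hu x (hB.1 hx), mul_inv_cancel_right]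
    have hbot : B = ⊥ := R.eq_bot_of_stable hB (fun h => by
      obtain ⟨u, hu, t, ht, rfl⟩ := F.top h
      rw [map_mul, ← mp_mp, mem_conjStab.1 (hTB t ht), hQB' u hu]) hall
    subst hbot
    -- `Q` is cyclic
    obtain ⟨g, hg, hgen⟩ := R.exists_generator hQc hB.1 (U := R.fix ⊥)
      (fun z hz u hu => R.fix_stable hQc hB.1 hz hu) le_rfl hB.2.1 F.Qcop
      (fun z hz hzB u hu hzu => R.eq_zero_of_fixed hB hz hzB hu hzu)
    have hpow : ∀ u ∈ Q, ∃ j : ℕ, u = g ^ j := fun u hu => by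
      obtain ⟨j, hj⟩ := hgen u hu
      exact ⟨j, mul_inv_eq_one.1 (Subgroup.mem_bot.1 hj)⟩
    refine F.ncom fun t ht u hu => ?_
    obtain ⟨s, hs, rfl⟩ := F.exists_commutator ha haT hb ht
    obtain ⟨k, hk⟩ := hpow _ (F.Qn.conj_mem g hg s)
    obtain ⟨m, hm⟩ := hpow _ (F.Qi b g hg)
    have h1 : s * ψ b g * s⁻¹ = g ^ (k * m) := by rw [hm, ← conj_pow, hk, ← pow_mul]
    have h2 : ψ b s * ψ b g * (ψ b s)⁻¹ = g ^ (k * m) := by
      rw [← map_inv, ← map_mul, ← map_mul, hk, map_pow, hm, ← pow_mul, mul_comm m k]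
    obtain ⟨j, hj⟩ := hpow _ (F.Qi b⁻¹ u hu)
    have hu' : u = ψ b g ^ j := by rw [← map_pow, ← hj, act_act_inv]
    have h3 : Commute (s⁻¹ * ψ b s) (ψ b g) := by
      change s⁻¹ * ψ b s * ψ b g = ψ b g * (s⁻¹ * ψ b s)
      calc s⁻¹ * ψ b s * ψ b g = s⁻¹ * (ψ b s * ψ b g * (ψ b s)⁻¹) * ψ b s := by group
        _ = ψ b g * (s⁻¹ * ψ b s) := by rw [h2, ← h1]; group
    rw [hu']
    exact (h3.pow_right j).eq
  push Not at hex
  obtain ⟨B, hB⟩ := R.exists_max (N := Q)
  obtain ⟨c, hc1, hcB, hsub, h0⟩ :=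
    (F.stab_cases F.Qn F.Qi hQc hB).resolve_left (hex B hB)
  have hanot : ∀ {C : Subgroup H}, R.IsMax Q C → a ∉ opStab ψ C :=
    fun hC h => hex _ hC (hastab hC h)
  have hca : c ∉ Subgroup.zpowers a := fun h =>
    hanot hB (Subgroup.zpowers_le.2 hcB (F.zp_symm hc1 h))
  -- `c` stabilizes all translates
  have hcfix : ∀ t ∈ T, c ∈ opStab ψ (mp (MulAut.conj t) B) := by
    intro t ht
    by_contra hct
    obtain ⟨d, hd1, hdB, -, -⟩ := (F.stab_cases F.Qn F.Qi hQc
      (R.isMax_conj F.Qn t hB)).resolve_left (hex _ (R.isMax_conj F.Qn t hB))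
    have hdc : d ∉ Subgroup.zpowers c := fun h =>
      hct (Subgroup.zpowers_le.2 hdB (F.zp_symm hd1 h))
    let S₀ : Subgroup A :=
      { carrier := {e | ∃ s ∈ T, mp (ψ e) B = mp (MulAut.conj s) B}
        one_mem' := ⟨1, one_mem T, by rw [map_one, map_one, mp_one]⟩
        mul_mem' := by
          rintro e f ⟨s, hs, he⟩ ⟨s', hs', hf⟩
          refine ⟨ψ e s' * s, mul_mem (F.Ti e s' hs') hs, ?_⟩
          rw [map_mul, ← mp_mp, hf, mp_comm, he, mp_mp, ← map_mul]
        inv_mem' := by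
          rintro e ⟨s, hs, he⟩
          refine ⟨(ψ e⁻¹ s)⁻¹, inv_mem (F.Ti _ s hs), ?_⟩
          have h := congrArg (mp (ψ e⁻¹)) he
          rw [mp_mp, ← map_mul, inv_mul_cancel, map_one, mp_one, mp_comm] at h
          conv_rhs => rw [h]
          rw [mp_mp, ← map_mul, inv_mul_cancel, map_one, mp_one] }
    have hdS : d ∈ S₀ := by
      refine ⟨(ψ d t)⁻¹ * t, mul_mem (inv_mem (F.Ti d t ht)) ht, ?_⟩
      have h := mem_opStab.1 hdB
      rw [mp_comm] at h
      rw [map_mul, ← mp_mp, ← h, mp_mp, ← map_mul, inv_mul_cancel, map_one, mp_one]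
    have haS : a ∈ S₀ := by
      rw [F.gen_two hc1 hdc (S := S₀) ⟨1, one_mem T, by rw [mem_opStab.1 hcB, map_one, mp_one]⟩ hdS]
      trivial
    obtain ⟨s, hs, has⟩ := haS
    have hiter : ∀ n : ℕ, mp (ψ (a ^ n)) B = mp (MulAut.conj (s ^ n)) B := by
      intro n
      induction n with
      | zero => rw [pow_zero, pow_zero, map_one, map_one, mp_one]
      | succ n ih =>
        rw [pow_succ', pow_succ, map_mul, ← mp_mp, ih, mp_comm, haT _ (T.pow_mem hs n), has,
          mp_mp, ← map_mul]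
    have hsB : s ∈ conjStab B := by
      refine S3Fpf.mem_of_pow_mem F.coprime_p _ ?_
      rw [mem_conjStab, ← hiter, F.expA, map_one, mp_one]
    exact hanot hB (mem_opStab.2 (has.trans (mem_conjStab.1 hsB)))
  have hTB : ∀ t ∈ T, t ∈ conjStab B := by
    intro t ht
    obtain ⟨s, hs, rfl⟩ := F.exists_commutator ha haT hca ht
    have h2 := mem_opStab.1 (hcfix s hs)
    rw [mp_comm, mem_opStab.1 hcB] at h2
    rw [mem_conjStab, map_mul, ← mp_mp, h2, mp_mp, ← map_mul, inv_mul_cancel, map_one, mp_one]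
  exact hQB hB (F.le_of_triv ha haT hca (fun t ht x hx => conj_mem_of_mp (hTB t ht) hx)
    fun u hu => F.triv_of_proper F.Qn F.Qi hQc hB hc1 hcB h0 hu)

/-- The case of a non-abelian `Q`. -/
theorem IsWard.false_of_nonabelian [Nontrivial W] (hD : ⁅Q, Q⁆ ≠ ⊥) : False := by
  classical
  haveI := R.finA
  haveI := R.finH
  haveI := F.Qn
  haveI := Fact.mk F.hp
  haveI := Fact.mk F.hq
  haveI : Group.IsNilpotent Q := F.Qp.isNilpotent
  haveI : Nontrivial (⁅Q, Q⁆ : Subgroup H) := (Subgroup.nontrivial_iff_ne_bot _).2 hD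
  set D := ⁅Q, Q⁆ with hDdef
  have hDQ : D ≤ Q := Subgroup.commutator_le_left Q Q
  have hDn : D.Normal := inferInstance
  have hDi : Inv ψ D := inv_commutator ψ F.Qi F.Qi
  have hDc : ∀ x ∈ D, ∀ y ∈ D, x * y = y * x := fun x hx y _ => (F.commutator_central hx y).symm
  obtain ⟨a, ha, haT⟩ := F.exists_triv
  have hord : ∀ x ∈ Q, (orderOf x).Coprime (Nat.card W) := fun x hx =>
    F.Qcop.coprime_dvd_left (Subgroup.orderOf_dvd_natCard Q hx)
  have hUH : ∀ {B : Subgroup H}, B ≤ D → ∀ h, ∀ v ∈ R.fix B, R.ρ h v ∈ R.fix B :=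
    fun hBD h v hv g hg => by
      rw [mem_stab, ← ρmul, ← F.commutator_central (hBD hg) h, ρmul, R.mem_fix.1 hv g hg]
  -- every component is stable under all operators
  have hstab : ∀ B, R.IsMax D B → opStab ψ B = ⊤ := by
    intro B hB
    refine (F.stab_cases hDn hDi hDc hB).resolve_right ?_
    rintro ⟨c, hc1, hcB, hsub, h0⟩
    let K : Subgroup H :=
      { carrier := {x | x ∈ Q ∧ ∀ v ∈ R.fix B, R.ρ x v = v}
        one_mem' := ⟨one_mem Q, fun v _ => R.ρone v⟩
        mul_mem' := fun {x y} hx hy => ⟨mul_mem hx.1 hy.1, fun v hv => by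
          rw [ρmul, hy.2 v hv, hx.2 v hv]⟩
        inv_mem' := fun {x} hx => ⟨inv_mem hx.1, fun v hv => by
          conv_lhs => arg 2; rw [← hx.2 v hv]
          exact R.ρinv x v⟩ }
    have hKn : ∀ h, ∀ x ∈ K, h * x * h⁻¹ ∈ K := fun h x hx =>
      ⟨F.Qn.conj_mem x hx.1 h, fun v hv => by
        rw [ρmul, ρmul, hx.2 _ (hUH hB.1 _ v hv), ← ρmul, mul_inv_cancel, ρone]⟩
    have hKc : ∀ x ∈ K, ψ c x ∈ K := fun x hx => ⟨F.Qi c x hx.1, fun v hv => by
      have h1 : R.σ c⁻¹ v ∈ R.fix B := mem_opStab.1 (inv_mem hcB) ▸ R.fix_act _ hv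
      have h2 : R.σ c (R.σ c⁻¹ v) = v := by rw [← σmul, mul_inv_cancel, σone]
      conv_lhs => rw [← h2]
      rw [← R.hσ, hx.2 _ h1, h2]⟩
    have hKd : ∀ d ∉ Subgroup.zpowers c, ∀ x ∈ Q, ψ d x = x → x ∈ K := by
      intro d hd x hx hdx
      refine ⟨hx, fun v hv => ?_⟩
      have hd1 : d ≠ 1 := fun h => hd (h ▸ one_mem _)
      set S := ∑ i ∈ Finset.range p, R.σ (d ^ i) v with hS
      have hdS : R.σ d S = S := by
        rw [hS, map_sum]
        simp only [← σmul, ← pow_succ']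
        have h1 := Finset.sum_range_succ' (fun j => R.σ (d ^ j) v) p
        have h2 := Finset.sum_range_succ (fun j => R.σ (d ^ j) v) p
        rw [h2, pow_zero, F.expA] at h1
        exact (add_right_cancel h1).symm
      have havg : R.avg B S = Nat.card B • v := by
        rw [hS, map_sum, Finset.sum_eq_single 0]
        · rw [pow_zero, σone, R.avg_of_fix hv]
        · intro i hi hi0
          refine R.avg_of_ne hDc hB (R.isMax_act hDi _ hB) (fun e => hd ?_) (R.fix_act _ hv)
          have hmem := hsub _ (mem_opStab.2 e.symm)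
          have hi1 : d ^ i ≠ 1 := fun h => by
            have := orderOf_dvd_of_pow_eq_one h
            rw [F.order hd1] at this
            exact absurd (Nat.le_of_dvd (Nat.pos_of_ne_zero hi0) this)
              (not_le.2 (Finset.mem_range.1 hi))
          exact Subgroup.zpowers_le.2 hmem (F.zp_symm hi1 (Subgroup.npow_mem_zpowers d i))
        · intro h
          exact absurd (Finset.mem_range.2 F.hp.pos) h
      have hcomm : R.ρ x (R.avg B S) = R.avg B (R.ρ x S) := by
        haveI := Fintype.ofFinite B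
        rw [avg_apply, avg_apply, map_sum]
        refine Finset.sum_congr rfl fun b _ => ?_
        rw [← ρmul, ← ρmul, F.commutator_central (hB.1 b.2) x]
      rw [F.centr d hd1 x S hdx (hord x hx) hdS, havg, map_nsmul, ← sub_eq_zero, ← nsmul_sub]
        at hcomm
      exact sub_eq_zero.1 (R.eq_zero_card hDn hDi hDc hB.1 hcomm)
    have hdec : ∀ u ∈ Q, ∃ k ∈ K, ∃ f ∈ Q, ψ c f = f ∧ u = k * f := by
      intro u hu
      have htop := generated (restrict ψ Q F.Qi) F.cardA F.expA (F.coprime_sub Q)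
        ((K ⊔ (Q ⊓ opFixed ψ c)).subgroupOf Q) fun e he x hx => by
          rw [Subgroup.mem_subgroupOf]
          by_cases hec : e ∈ Subgroup.zpowers c
          · exact Subgroup.mem_sup_right
              ⟨x.2, F.fixed_of_zpowers (F.zp_symm he hec) (congrArg Subtype.val hx)⟩
          · exact Subgroup.mem_sup_left (hKd e hec x x.2 (congrArg Subtype.val hx))
      have hu' : u ∈ K ⊔ (Q ⊓ opFixed ψ c) :=
        (htop ▸ Subgroup.mem_top (⟨u, hu⟩ : Q) :
          (⟨u, hu⟩ : Q) ∈ (K ⊔ (Q ⊓ opFixed ψ c)).subgroupOf Q)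
      have hKn' : K.Normal := ⟨fun x hx h => hKn h x hx⟩
      obtain ⟨k, hk, f, hf, rfl⟩ := (Cfsg.Agent.SolvBasic.mem_sup_iff_of_le_normalizer
        (H := Q ⊓ opFixed ψ c) (N := K) Subgroup.le_normalizer_of_normal).1 hu'
      exact ⟨k, hk, f, hf.1, hf.2, rfl⟩
    have hQK : Q ≤ K := by
      by_cases hca : c ∈ Subgroup.zpowers a
      · have hdec' : ∀ u ∈ Q, ∃ k ∈ K, ∃ z ∈ D, u = k * z := fun u hu => by
          obtain ⟨k, hk, f, hf, hcf, rfl⟩ := hdec u hu
          exact ⟨k, hk, f, F.fixed_mem_commutator ha haT hf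
            (F.fixed_of_zpowers (F.zp_symm hc1 hca) hcf), rfl⟩
        have hDK : D ≤ K := by
          rw [hDdef, Subgroup.commutator_le]
          intro u hu w hw
          obtain ⟨k, hk, z, hz, rfl⟩ := hdec' u hu
          obtain ⟨k', hk', z', hz', rfl⟩ := hdec' w hw
          have e : ⁅k * z, k' * z'⁆ = ⁅k, k'⁆ := by
            simp only [commutatorElement_def, mul_inv_rev]
            calc k * z * (k' * z') * (z⁻¹ * k⁻¹) * (z'⁻¹ * k'⁻¹)
                = k * (z * (k' * z') * z⁻¹) * k⁻¹ * z'⁻¹ * k'⁻¹ := by group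
              _ = k * (k' * z') * k⁻¹ * z'⁻¹ * k'⁻¹ := by
                  rw [← F.commutator_central hz (k' * z'), mul_inv_cancel_right]
              _ = k * k' * (z' * k⁻¹ * z'⁻¹) * k'⁻¹ := by group
              _ = k * k' * k⁻¹ * k'⁻¹ := by
                  rw [← F.commutator_central hz' k⁻¹, mul_inv_cancel_right]
          rw [e, commutatorElement_def]
          exact mul_mem (mul_mem (mul_mem hk hk') (inv_mem hk)) (inv_mem hk')
        intro u hu
        obtain ⟨k, hk, z, hz, rfl⟩ := hdec' u hu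
        exact mul_mem hk (hDK hz)
      · refine F.le_of_triv ha haT hca (fun t _ x hx => hKn t x hx) fun u hu => ?_
        obtain ⟨k, hk, f, -, hcf, rfl⟩ := hdec u hu
        rw [map_mul, hcf, mul_inv_rev, mul_assoc k, mul_inv_cancel_left]
        exact mul_mem hk (inv_mem (hKc k hk))
    exact R.isMax_lt hDn hDi hB fun z hz =>
      R.mem_of_fix_all hB hz (hQK (hDQ hz)).2
  -- `D` acts without fixed vectors
  have hfree : ∀ z ∈ D, z ≠ 1 → ∀ v, R.ρ z v = v → v = 0 := by
    intro z hz hz1 v hv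
    obtain ⟨B, hB⟩ := R.exists_max (N := D)
    have hbot : B = ⊥ := by
      refine R.eq_bot_of_stable hB (fun h => ?_) fun e =>
        mem_opStab.1 (hstab B hB ▸ Subgroup.mem_top e)
      ext x
      constructor
      · rintro ⟨y, hy, rfl⟩
        change h * y * h⁻¹ ∈ B
        rwa [F.commutator_central (hB.1 hy), mul_inv_cancel_right]
      · intro hx
        refine ⟨x, hx, ?_⟩
        change h * x * h⁻¹ = x
        rw [F.commutator_central (hB.1 hx), mul_inv_cancel_right]
    subst hbot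
    exact R.eq_zero_of_fixed hB hz (fun h => hz1 (Subgroup.mem_bot.1 h))
      (fun g hg => by rw [Subgroup.mem_bot.1 hg]; exact one_mem _) hv
  haveI : Group.IsNilpotent D := isNilpotent_of_le hDQ
  obtain ⟨c, hc1, z, hz, hz1, hcz⟩ : ∃ c, c ≠ 1 ∧ ∃ z ∈ D, z ≠ 1 ∧ ψ c z = z := by
    by_contra hcon
    push Not at hcon
    have htop := generated (restrict ψ D hDi) F.cardA F.expA (F.coprime_sub D) ⊥ fun e he x hx => by
      rw [Subgroup.mem_bot]
      by_contra hx1
      exact hcon e he x x.2 (fun h => hx1 (Subtype.ext h)) (congrArg Subtype.val hx)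
    obtain ⟨x, hx⟩ := exists_ne (1 : D)
    exact hx (Subgroup.mem_bot.1 (htop ▸ Subgroup.mem_top x))
  have h0 : ∀ v, R.σ c v = v → v = 0 := fun v hv =>
    hfree z hz hz1 v (F.centr c hc1 z v hcz (hord z (hDQ hz)) hv)
  have habel : ∀ E : Subgroup H, E ≤ Q → (∀ x ∈ E, ∀ y ∈ E, x * y = y * x) →
      (∀ x ∈ E, ψ c x ∈ E) → ∀ x ∈ E, ψ c x = x := fun E hEQ hEc hEi x hx =>
    (mul_inv_eq_one.1 (R.faithful _ fun v => R.act_fix F.hp (F.order hc1) hEc hEi
      (F.Qcop.coprime_dvd_left (Subgroup.card_dvd_of_le hEQ)) (U := ⊤) (fun _ _ => trivial)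
      (fun _ _ _ _ => trivial) (fun v _ hv => h0 v hv) hx (v := v) trivial)).symm
  have hDfix := habel D hDQ hDc (fun x hx => hDi c x hx)
  have hQfix : ∀ u ∈ Q, ψ c u = u := by
    intro u hu
    have htop := generated (restrict ψ Q F.Qi) F.cardA F.expA (F.coprime_sub Q)
      ((opFixed ψ c).subgroupOf Q) fun e he x hx => by
        rw [Subgroup.mem_subgroupOf, mem_opFixed]
        by_cases hec : e ∈ Subgroup.zpowers c
        · exact F.fixed_of_zpowers (F.zp_symm he hec) (congrArg Subtype.val hx)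
        · refine habel (Q ⊓ opFixed ψ e) inf_le_left (fun x hx y hy => ?_)
            (fun x hx => inv_inf ψ F.Qi (F.inv_opFixed e) c x hx) _ ⟨x.2, congrArg Subtype.val hx⟩
          rw [← commutatorElement_eq_one_iff_mul_comm]
          refine F.eq_one_of_fixed_two hc1 hec
            (hDfix _ (Subgroup.commutator_mem_commutator hx.1 hy.1)) ?_
          rw [map_commutatorElement, mem_opFixed.1 hx.2, mem_opFixed.1 hy.2]
    exact mem_opFixed.1
      (htop ▸ Subgroup.mem_top (⟨u, hu⟩ : Q) : (⟨u, hu⟩ : Q) ∈ (opFixed ψ c).subgroupOf Q)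
  by_cases hca : c ∈ Subgroup.zpowers a
  · refine F.commutator_lt (le_antisymm hDQ fun u hu => ?_)
    exact F.fixed_mem_commutator ha haT hu (F.fixed_of_zpowers (F.zp_symm hc1 hca) (hQfix u hu))
  · refine hD (le_bot_iff.1 (hDQ.trans (F.le_of_triv ha haT hca (K := ⊥) (fun t _ x hx => ?_)
      fun u hu => ?_)))
    · rw [Subgroup.mem_bot.1 hx, mul_one, mul_inv_cancel]
      exact one_mem _
    · rw [hQfix u hu, mul_inv_cancel]
      exact one_mem _

theorem IsWard.false [Nontrivial W] : False :=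
  (em (⁅Q, Q⁆ = ⊥)).elim F.false_of_abelian F.false_of_nonabelian

end Operators

end Rep

/-- A `q`-element and an `r`-element commute modulo every term of the lower central series with
nilpotent quotient. -/
theorem commutator_mem_lcs {H : Type*} [Group H] [Finite H] {K : Subgroup H} {k : ℕ} {q r : ℕ}
    [Fact q.Prime] (hr : r.Prime) (hqr : q ≠ r) {x y : H} (hx : x ∈ K) (hy : y ∈ K) {i j : ℕ}
    (hxo : orderOf x = q ^ i) (hyo : orderOf y = r ^ j) : ⁅x, y⁆ ∈ K.lowerCentralSeries k := by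
  set M := (⊤ : Subgroup K).lowerCentralSeries k with hM
  haveI : Group.IsNilpotent (K ⧸ M) := Subgroup.nilpotent_iff_lowerCentralSeries.2 ⟨k, by
    rw [← Subgroup.map_top_of_surjective _ (QuotientGroup.mk'_surjective M),
      ← Subgroup.map_lowerCentralSeries]
    exact QuotientGroup.map_mk'_self M⟩
  obtain ⟨i', -, hxo'⟩ := (Nat.dvd_prime_pow (Fact.out : q.Prime)).1
    (hxo ▸ Subgroup.orderOf_mk x hx ▸ orderOf_map_dvd (QuotientGroup.mk' M) ⟨x, hx⟩)
  have hyo' : (orderOf (QuotientGroup.mk' M ⟨y, hy⟩)).Coprime q := by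
    refine Nat.Coprime.coprime_dvd_left
      (hyo ▸ Subgroup.orderOf_mk y hy ▸ orderOf_map_dvd (QuotientGroup.mk' M) ⟨y, hy⟩) ?_
    exact (((Nat.coprime_primes hr (Fact.out : q.Prime)).2 hqr.symm)).pow_left j
  have hc := Cfsg.Agent.FixedPointFreeThompson.commute_of_nilpotent hxo' hyo'
  have h1 : ⁅(⟨x, hx⟩ : K), ⟨y, hy⟩⁆ ∈ M := by
    rw [← QuotientGroup.eq_one_iff, ← QuotientGroup.mk'_apply, map_commutatorElement,
      commutatorElement_eq_one_iff_mul_comm]
    exact hc.symm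
  rw [← Subgroup.top_subtype_lowerCentralSeries]
  exact ⟨_, h1, by simp [commutatorElement_def]⟩

/-- Ward's theorem. -/
theorem nilLcs_ward {A : Type v} [Group A] [Finite A] {p : ℕ} (hp : p.Prime)
    (hcard : Nat.card A = p ^ 2) (hexp : ∀ a : A, a ^ p = 1) (hcomm : ∀ a b : A, a * b = b * a)
    {G : Type u} [Group G] [Finite G] [Group.IsSolvable G] (φ : A →* MulAut G)
    (hfpf : Fpf φ) : NilLcs Set.univ G := by
  haveI := Fact.mk hp
  have hA : IsPGroup p A := fun a => ⟨1, by rw [pow_one]; exact hexp a⟩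
  refine nilLcs_of_no_cfg hA Set.univ ⟨0, trivial⟩ (fun _ _ _ _ => trivial)
    (fun G' _ _ _ φ hfpf C => ?_) _ G φ hfpf rfl
  have hpG := not_dvd_card φ hA hfpf
  set R := C.rep (coprime_card hA hpG) hfpf with hR
  haveI := Fact.mk C.hℓ
  let ψ := C.ψ
  have hpH : ¬ p ∣ Nat.card C.H := fun h => hpG (h.trans (Subgroup.card_subgroup_dvd_card C.H))
  -- the centralizer of an operator is nilpotent
  have hnilC : ∀ c : A, c ≠ 1 →
      Group.IsNilpotent (MonoidHom.eqLocus (φ c).toMonoidHom (MonoidHom.id G')) := by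
    intro c hc
    set F := MonoidHom.eqLocus (φ c).toMonoidHom (MonoidHom.id G') with hF
    have hFi : Inv φ F := fun a x hx => by
      change φ c (φ a x) = φ a x
      rw [← act_mul, hcomm, act_mul]
      exact congrArg (φ a) hx
    obtain ⟨b, hb⟩ : ∃ b : A, b ∉ Subgroup.zpowers c := by
      by_contra h
      push Not at h
      have h1 : Nat.card A ≤ p := by
        rw [← orderOf_eq_card_of_forall_mem_zpowers h]
        exact Nat.le_of_dvd hp.pos (orderOf_dvd_of_pow_eq_one (hexp c))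
      rw [hcard] at h1
      exact absurd h1 (by
        have := Nat.pow_lt_pow_right hp.one_lt (show 1 < 2 by norm_num)
        rw [pow_one] at this
        omega)
    refine Cfsg.Agent.FixedPointFreeThompson.isNilpotent (restrict φ F hFi b) hp
      (by rw [← map_pow, hexp, map_one]) fun x hx => Subtype.ext ?_
    let S : Subgroup A :=
      { carrier := {e | φ e (x : G') = x}
        one_mem' := act_one φ _
        mul_mem' := fun {e f} he hf => by
          simp only [Set.mem_ofPred_eq] at he hf ⊢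
          rw [act_mul, hf, he]
        inv_mem' := fun {e} he => by
          simp only [Set.mem_ofPred_eq] at he ⊢
          nth_rw 1 [← he]
          rw [act_inv_act] }
    have hcS : c ∈ S := x.2
    have hbS : b ∈ S := congrArg Subtype.val hx
    have htop : S = ⊤ := by
      obtain ⟨k, hk2, hk⟩ := (Nat.dvd_prime_pow hp).1 (hcard ▸ Subgroup.card_subgroup_dvd_card S)
      refine Subgroup.eq_top_of_card_eq S ?_
      rcases Nat.lt_or_ge k 2 with hlt | hge
      · exfalso
        refine hb ?_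
        have hle2 : Nat.card S ≤ Nat.card (Subgroup.zpowers c) := by
          rw [Nat.card_zpowers, orderOf_eq_prime (hexp c) hc, hk]
          exact le_trans (Nat.pow_le_pow_right hp.pos (Nat.le_of_lt_succ hlt)) (by rw [pow_one])
        rw [Subgroup.eq_of_le_of_card_ge (Subgroup.zpowers_le.2 hcS) hle2]
        exact hbS
      · rw [hcard, hk, le_antisymm hk2 hge]
    exact hfpf _ fun e => (htop ▸ Subgroup.mem_top e : e ∈ S)
  obtain ⟨k₀, -, hN₀⟩ := C.hnil
  haveI := hN₀
  set N₀ := (⊤ : Subgroup C.H).lowerCentralSeries k₀ with hN₀def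
  haveI : Group.IsNilpotent (C.H ⧸ N₀) := Subgroup.nilpotent_iff_lowerCentralSeries.2 ⟨k₀, by
    rw [← Subgroup.map_top_of_surjective _ (QuotientGroup.mk'_surjective N₀),
      ← Subgroup.map_lowerCentralSeries]
    exact QuotientGroup.map_mk'_self N₀⟩
  have hN₀i : Inv ψ N₀ := inv_of_characteristic ψ inferInstance
  have hN₀W : (Nat.card N₀).Coprime (Nat.card C.W) := R.cop N₀ inferInstance hN₀i inferInstance
  have hnot : ¬ Group.IsNilpotent C.H := fun h => by
    obtain ⟨n, hn⟩ := Subgroup.nilpotent_iff_lowerCentralSeries.1 h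
    exact C.hnot n trivial hn
  -- some Sylow subgroup does not centralize a Sylow subgroup of `N₀`
  obtain ⟨q, r, hq, hr, hqr, Q, T, hQn, hQi, hQp, hQN, hTi, hTp, hne⟩ : ∃ q r : ℕ, q.Prime ∧
      r.Prime ∧ q ≠ r ∧ ∃ Q T : Subgroup C.H, Q.Normal ∧ Inv ψ Q ∧ IsPGroup q Q ∧ Q ≤ N₀ ∧
        Inv ψ T ∧ IsPGroup r T ∧ ¬ ∀ t ∈ T, ∀ u ∈ Q, t * u = u * t := by
    by_contra hcon
    push Not at hcon
    refine hnot ?_
    have hiff : Group.IsNilpotent C.H ↔
        ∀ (p : ℕ) (_hp : Fact p.Prime) (P : Sylow p C.H), (P : Subgroup C.H).Normal :=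
      (Group.isNilpotent_of_finite_tfae (G := C.H)).out 0 3
    refine hiff.2 fun r hr P => ?_
    haveI := hr
    obtain ⟨T, hT⟩ := exists_inv_sylow' ψ hA hpH r
    suffices hTn : (T : Subgroup C.H).Normal by
      haveI := Sylow.unique_of_normal T hTn
      rwa [Subsingleton.elim P T]
    set M := (T : Subgroup C.H) ⊔ N₀ with hMdef
    have hMn : M.Normal := by
      have hTimg : ((T : Subgroup C.H).map (QuotientGroup.mk' N₀)).Normal := by
        have := (T.mapSurjective (QuotientGroup.mk'_surjective N₀))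
        have h2 : ((T.mapSurjective (QuotientGroup.mk'_surjective N₀) : Sylow r (C.H ⧸ N₀)) :
            Subgroup (C.H ⧸ N₀)).Normal := inferInstance
        rwa [Sylow.coe_mapSurjective] at h2
      have := hTimg.comap (QuotientGroup.mk' N₀)
      rwa [Subgroup.comap_map_eq, QuotientGroup.ker_mk'] at this
    have hMT : ∀ x ∈ M, x ∈ Subgroup.normalizer ((T : Subgroup C.H) : Set C.H) := by
      refine fun x hx => (sup_le Subgroup.le_normalizer ?_ : M ≤ _) hx
      have h := Cfsg.Agent.FittingCores.eq_top_of_forall_sylow_le (G := N₀)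
        (X := (Subgroup.normalizer ((T : Subgroup C.H) : Set C.H)).subgroupOf N₀) (fun q hq => by
          haveI := Fact.mk hq
          obtain ⟨Qs⟩ : Nonempty (Sylow q N₀) := inferInstance
          refine ⟨Qs, fun y hy => ?_⟩
          haveI hQc : (Qs : Subgroup N₀).Characteristic := Qs.characteristic_of_normal inferInstance
          have hQn' : ((Qs : Subgroup N₀).map N₀.subtype).Normal :=
            Cfsg.Agent.FittingCores.normal_map_of_characteristic (N := N₀) inferInstance hQc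
          have hQp' : IsPGroup q ((Qs : Subgroup N₀).map N₀.subtype) := Qs.isPGroup'.map _
          by_cases hqr : q = r
          · subst hqr
            obtain ⟨P, hP⟩ := hQp'.exists_le_sylow
            obtain ⟨g, hg⟩ := MulAction.exists_smul_eq C.H P T
            refine Subgroup.le_normalizer ?_
            rw [← hg, Sylow.coe_subgroup_smul]
            refine ⟨g⁻¹ * (y : C.H) * g, hP ?_, ?_⟩
            · simpa using hQn'.conj_mem _ ⟨y, hy, rfl⟩ g⁻¹
            · change g * (g⁻¹ * (y : C.H) * g) * g⁻¹ = (y : C.H)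
              group
          · rw [Subgroup.mem_subgroupOf, Subgroup.mem_normalizer_iff]
            intro t
            have hc : ∀ t ∈ (T : Subgroup C.H), t * (y : C.H) = y * t := fun t ht =>
              hcon q r hq hr.out hqr _ _ hQn' (inv_map_subtype ψ hN₀i (inv_of_characteristic _ hQc))
                hQp' (Subgroup.map_subtype_le _) hT T.isPGroup' t ht y ⟨y, hy, rfl⟩
            constructor
            · intro ht
              rwa [← hc t ht, mul_inv_cancel_right]
            · intro ht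
              have := hc _ ht
              have h' : t * (y : C.H) = y * t := by
                calc t * (y : C.H) = (y : C.H)⁻¹ * ((y : C.H) * t * (y : C.H)⁻¹ * y) * y := by group
                  _ = _ := by rw [this]; group
              rwa [← h', mul_inv_cancel_right] at ht)
      exact Subgroup.subgroupOf_eq_top.1 h
    have hTM : ((T.subtype le_sup_left : Sylow r M) : Subgroup M).Normal := by
      refine ⟨fun x hx g => ?_⟩
      have := (Subgroup.mem_normalizer_iff.1 (hMT g g.2) x).1 hx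
      exact this
    have hTc := (T.subtype le_sup_left : Sylow r M).characteristic_of_normal hTM
    have := Cfsg.Agent.FittingCores.normal_map_of_characteristic (N := M) hMn hTc
    rwa [Sylow.coe_subtype, Subgroup.map_subgroupOf_eq_of_le le_sup_left] at this
  haveI := Fact.mk hq
  haveI := Fact.mk hr
  have hQcop : (Nat.card Q).Coprime (Nat.card C.W) :=
    hN₀W.coprime_dvd_left (Subgroup.card_dvd_of_le hQN)
  have hQT : ∀ x, x ∈ Q → x ∈ T → x = 1 := fun x hx hy =>
    Subgroup.mem_bot.1 ((IsPGroup.disjoint_of_ne q r hqr Q T hQp hTp).le_bot ⟨hx, hy⟩)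
  -- elements of a proper stable subgroup commute
  have hmini : ∀ K : Subgroup C.H, Inv ψ K → K ≠ ⊤ →
      ∀ t ∈ T, ∀ u ∈ Q, t ∈ K → u ∈ K → t * u = u * t := by
    intro K hKi hKne t ht u hu htK huK
    obtain ⟨k, -, hk⟩ := C.hsub K hKi hKne
    obtain ⟨i, hi⟩ := IsPGroup.iff_orderOf.1 hQp ⟨u, hu⟩
    obtain ⟨j, hj⟩ := IsPGroup.iff_orderOf.1 hTp ⟨t, ht⟩
    rw [Subgroup.orderOf_mk] at hi hj
    have hmem := commutator_mem_lcs (k := k) hr hqr huK htK hi hj
    have hQ' : ⁅u, t⁆ ∈ Q := by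
      rw [commutatorElement_def, mul_assoc u t, mul_assoc u]
      exact mul_mem hu (hQn.conj_mem _ (inv_mem hu) t)
    obtain ⟨m, hm⟩ := IsPGroup.iff_orderOf.1 hk ⟨_, hmem⟩
    rw [Subgroup.orderOf_mk] at hm
    have hone : ⁅u, t⁆ = 1 := by
      rw [← orderOf_eq_one_iff]
      refine Nat.eq_one_of_dvd_coprimes
        ((hQcop.coprime_dvd_left (Subgroup.orderOf_dvd_natCard Q hQ')).pow_right 1)
        dvd_rfl ?_
      rw [pow_one, hm]
      obtain ⟨e, he⟩ := IsPGroup.iff_card.1 C.hVp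
      have he0 : e ≠ 0 := fun h0 => by
        rw [h0, pow_zero, Subgroup.card_eq_one] at he
        exact C.hVne he
      rcases m with _ | m
      · simp
      · rw [Nat.card_congr Additive.toMul, he]
        by_contra hndvd
        -- the order is then one
        exact hndvd (by
          have hcop' : (C.ℓ ^ (m + 1)).Coprime (C.ℓ ^ e) := by
            rw [← hm]
            have := hQcop.coprime_dvd_left (Subgroup.orderOf_dvd_natCard Q hQ')
            rwa [Nat.card_congr Additive.toMul, he] at this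
          rw [Nat.coprime_pow_left_iff (Nat.succ_pos m), Nat.coprime_pow_right_iff
            (Nat.pos_of_ne_zero he0), Nat.coprime_self] at hcop'
          exact absurd hcop' C.hℓ.ne_one)
    exact (commutatorElement_eq_one_iff_mul_comm.1 hone).symm
  have htop : Q ⊔ T = ⊤ := by
    by_contra h
    exact hne fun t ht u hu => hmini _ (inv_sup ψ hQi hTi) h t ht u hu
      (Subgroup.mem_sup_right ht) (Subgroup.mem_sup_left hu)
  have hmemQT : ∀ (K L : Subgroup C.H), L ≤ Subgroup.normalizer (K : Set C.H) → ∀ h ∈ K ⊔ L,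
      ∃ u ∈ K, ∃ t ∈ L, h = u * t := fun K L hle h hh =>
    (Cfsg.Agent.SolvBasic.mem_sup_iff_of_le_normalizer (H := L) (N := K) hle).1 hh
  have F : R.IsWard p q r Q T :=
    { hp := hp, hq := hq, hr := hr, cardA := hcard, expA := hexp, commA := hcomm
      fpfH := restrict_fpf φ hfpf C.H C.hHi
      Qn := hQn, Qi := hQi, Qp := hQp, Qcop := hQcop, Ti := hTi, Tp := hTp, qr := hqr
      centr := fun c hc h v hch hord hcv => by
        change C.ρ h v = v
        refine C.ρ_of_commute ?_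
        haveI := hnilC c hc
        obtain ⟨j, hj⟩ := IsPGroup.iff_orderOf.1 C.hVp (Additive.toMul v)
        rw [← Subgroup.orderOf_coe] at hj
        have hcop' : (orderOf (h : G')).Coprime C.ℓ := by
          rw [Subgroup.orderOf_coe]
          obtain ⟨e, he⟩ := IsPGroup.iff_card.1 C.hVp
          rw [Nat.card_congr Additive.toMul, he] at hord
          refine (Nat.coprime_pow_right_iff (Nat.pos_of_ne_zero fun h0 => C.hVne ?_) _ _).1 hord
          rw [h0, pow_zero, Subgroup.card_eq_one] at he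
          exact he
        exact congrArg Subtype.val (Cfsg.Agent.FixedPointFreeThompson.commute_of_nilpotent
          (x := (⟨_, congrArg C.val hcv⟩ : MonoidHom.eqLocus (φ c).toMonoidHom (MonoidHom.id G')))
          (g := ⟨_, congrArg Subtype.val hch⟩) (p := C.ℓ) (k := j)
          ((Subgroup.orderOf_coe _).symm.trans hj)
          (hcop'.coprime_dvd_left (Subgroup.orderOf_coe _).symm.dvd))
      trivC := fun c hc hfix => by
        refine (hnot ?_).elim
        haveI := hnilC c hc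
        refine isNilpotent_of_injective (C.H.subtype.codRestrict
          (MonoidHom.eqLocus (φ c).toMonoidHom (MonoidHom.id G'))
          fun h => congrArg Subtype.val (hfix h)) fun x y h => ?_
        exact Subtype.ext (congrArg Subtype.val h :)
      top := fun h => hmemQT Q T Subgroup.le_normalizer_of_normal h (htop ▸ Subgroup.mem_top h)
      minT := fun K hKT hKi hKne t ht u hu => by
        refine hmini (Q ⊔ K) (inv_sup ψ hQi hKi) (fun h => hKne (le_antisymm hKT fun s hs => ?_))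
          t (hKT ht) u hu (Subgroup.mem_sup_right ht) (Subgroup.mem_sup_left hu)
        obtain ⟨w, hw, k, hk, rfl⟩ :=
          hmemQT Q K Subgroup.le_normalizer_of_normal s (h ▸ Subgroup.mem_top s)
        rw [hQT w hw (by simpa using mul_mem hs (inv_mem (hKT hk))), one_mul]
        exact hk
      minQ := fun K hKQ hKi hKT hKne t ht u hu => by
        have hle : T ≤ Subgroup.normalizer (K : Set C.H) := fun s hs => by
          rw [Subgroup.mem_normalizer_iff]
          refine fun x => ⟨hKT s hs x, fun hx => ?_⟩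
          have := hKT s⁻¹ (inv_mem hs) _ hx
          simpa [mul_assoc] using this
        refine hmini (K ⊔ T) (inv_sup ψ hKi hTi) (fun h => hKne (le_antisymm hKQ fun w hw => ?_))
          t ht u (hKQ hu) (Subgroup.mem_sup_right ht) (Subgroup.mem_sup_left hu)
        obtain ⟨k, hk, s, hs, rfl⟩ := hmemQT K T hle w (h ▸ Subgroup.mem_top w)
        rw [hQT s (by simpa using mul_mem (inv_mem (hKQ hk)) hw) hs, mul_one]
        exact hk
      ncom := hne }
  exact F.false

end Cfsg.Agent.OpFpf
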