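import Cfsg.Agent.Lib.FiniteGroup.S3Fpf.Basic
import Cfsg.Agent.Lib.Solvable.Coprime
import Mathlib.GroupTheory.SemidirectProduct
import Mathlib.GroupTheory.Sylow

/-!
Operator groups acting without common fixed points on groups of coprime order: elementary
properties.
-/

set_option autoImplicit false
set_option linter.style.haveILetI false

open scoped commutatorElement Pointwise

namespace Cfsg.Agent.OpFpf

variable {A G : Type*} [Group A] [Group G]

/-- No common fixed element besides the identity. -/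
def Fpf (φ : A →* MulAut G) : Prop := ∀ g, (∀ a, φ a g = g) → g = 1

/-- A subgroup stable under all operators. -/
def Inv (φ : A →* MulAut G) (K : Subgroup G) : Prop := ∀ a, ∀ x ∈ K, φ a x ∈ K

variable (φ : A →* MulAut G)

theorem act_mul (a b : A) (x : G) : φ (a * b) x = φ a (φ b x) := by rw [map_mul]; rfl

@[simp] theorem act_one (x : G) : φ 1 x = x := by rw [map_one]; rfl

@[simp] theorem act_inv_act (a : A) (x : G) : φ a⁻¹ (φ a x) = x := by
  rw [← act_mul, inv_mul_cancel, act_one]

@[simp] theorem act_act_inv (a : A) (x : G) : φ a (φ a⁻¹ x) = x := by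
  rw [← act_mul, mul_inv_cancel, act_one]

theorem inv_top : Inv φ ⊤ := fun _ _ _ => trivial

theorem inv_bot : Inv φ ⊥ := fun a x hx => by
  rw [Subgroup.mem_bot.1 hx, map_one]; exact one_mem _

theorem inv_inf {K L : Subgroup G} (hK : Inv φ K) (hL : Inv φ L) : Inv φ (K ⊓ L) :=
  fun a x hx => ⟨hK a x hx.1, hL a x hx.2⟩

theorem inv_sup {K L : Subgroup G} (hK : Inv φ K) (hL : Inv φ L) : Inv φ (K ⊔ L) :=
  fun a _ hx => (sup_le (a := K) (b := L) (c := (K ⊔ L).comap (φ a).toMonoidHom)
    (fun y hy => Subgroup.mem_sup_left (hK a y hy))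
    (fun y hy => Subgroup.mem_sup_right (hL a y hy))) hx

theorem inv_closure {s : Set G} (h : ∀ a, ∀ x ∈ s, φ a x ∈ Subgroup.closure s) :
    Inv φ (Subgroup.closure s) :=
  fun a _ hx => (Subgroup.closure_le (K := (Subgroup.closure s).comap (φ a).toMonoidHom)).2 (h a) hx

theorem inv_commutator {K L : Subgroup G} (hK : Inv φ K) (hL : Inv φ L) : Inv φ ⁅K, L⁆ := by
  intro a
  have h : ⁅K, L⁆ ≤ ⁅K, L⁆.comap (φ a).toMonoidHom := by
    rw [Subgroup.commutator_le]
    intro k hk l hl
    rw [Subgroup.mem_comap, map_commutatorElement]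
    exact Subgroup.commutator_mem_commutator (hK a k hk) (hL a l hl)
  exact fun x hx => h hx

theorem inv_of_characteristic {C : Subgroup G} (hC : C.Characteristic) : Inv φ C := fun a x hx => by
  have := Subgroup.characteristic_iff_comap_eq.1 hC (φ a)
  rw [← this] at hx
  exact hx

theorem inv_centralizer {R : Subgroup G} (hR : Inv φ R) :
    Inv φ (Subgroup.centralizer (R : Set G)) := by
  intro a g hg
  rw [Subgroup.mem_centralizer_iff] at hg ⊢
  intro r hr
  have := congrArg (φ a) (hg _ (hR a⁻¹ r hr))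
  rwa [map_mul, map_mul, act_act_inv] at this

theorem inv_normalizer {R : Subgroup G} (hR : Inv φ R) :
    Inv φ (Subgroup.normalizer (R : Set G)) := by
  intro a g hg
  rw [Subgroup.mem_normalizer_iff] at hg ⊢
  intro r
  constructor
  · intro hr
    have := hR a _ ((hg (φ a⁻¹ r)).1 (hR a⁻¹ r hr))
    rwa [map_mul, map_mul, map_inv (φ a), act_act_inv] at this
  · intro hr
    have h1 : g * φ a⁻¹ r * g⁻¹ ∈ R := by
      have := hR a⁻¹ _ hr
      rwa [map_mul (φ a⁻¹), map_mul (φ a⁻¹), map_inv (φ a⁻¹), act_inv_act] at this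
    have := hR a _ ((hg _).2 h1)
    rwa [act_act_inv] at this

/-- The action on a stable subgroup. -/
def restrict (K : Subgroup G) (hK : Inv φ K) : A →* MulAut K where
  toFun a :=
    { toFun := fun x => ⟨φ a x, hK a x x.2⟩
      invFun := fun x => ⟨φ a⁻¹ x, hK a⁻¹ x x.2⟩
      left_inv := fun x => Subtype.ext (act_inv_act φ a x)
      right_inv := fun x => Subtype.ext (act_act_inv φ a x)
      map_mul' := fun x y => Subtype.ext (map_mul (φ a) _ _) }
  map_one' := MulEquiv.ext fun x => Subtype.ext (act_one φ x)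
  map_mul' a b := MulEquiv.ext fun x => Subtype.ext (act_mul φ a b x)

@[simp] theorem restrict_apply (K : Subgroup G) (hK : Inv φ K) (a : A) (x : K) :
    ((restrict φ K hK a x : K) : G) = φ a x := rfl

theorem restrict_fpf (hfpf : Fpf φ) (K : Subgroup G) (hK : Inv φ K) : Fpf (restrict φ K hK) :=
  fun x h => Subtype.ext (hfpf _ fun a => congrArg Subtype.val (h a))

theorem inv_map_subtype {K : Subgroup G} (hK : Inv φ K) {C : Subgroup K}
    (hC : Inv (restrict φ K hK) C) : Inv φ (C.map K.subtype) := by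
  rintro a _ ⟨x, hx, rfl⟩
  exact ⟨_, hC a x hx, rfl⟩

theorem inv_subgroupOf {K : Subgroup G} (hK : Inv φ K) {C : Subgroup G} (hC : Inv φ C) :
    Inv (restrict φ K hK) (C.subgroupOf K) := fun a x hx => hC a (x : G) hx

/-- The action on a quotient by a stable normal subgroup. -/
def quot (N : Subgroup G) [N.Normal] (hN : Inv φ N) : A →* MulAut (G ⧸ N) where
  toFun a :=
    { toFun := QuotientGroup.map N N (φ a).toMonoidHom fun x hx => hN a x hx
      invFun := QuotientGroup.map N N (φ a⁻¹).toMonoidHom fun x hx => hN a⁻¹ x hx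
      left_inv := fun x => QuotientGroup.induction_on x fun g =>
        congrArg (QuotientGroup.mk (s := N)) (act_inv_act φ a g)
      right_inv := fun x => QuotientGroup.induction_on x fun g =>
        congrArg (QuotientGroup.mk (s := N)) (act_act_inv φ a g)
      map_mul' := map_mul _ }
  map_one' := MulEquiv.ext fun x => QuotientGroup.induction_on x fun g =>
    congrArg (QuotientGroup.mk (s := N)) (act_one φ g)
  map_mul' a b := MulEquiv.ext fun x => QuotientGroup.induction_on x fun g =>
    congrArg (QuotientGroup.mk (s := N)) (act_mul φ a b g)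

theorem quot_mk (N : Subgroup G) [N.Normal] (hN : Inv φ N) (a : A) (g : G) :
    quot φ N hN a (QuotientGroup.mk g) = QuotientGroup.mk (φ a g) := rfl

theorem inv_comap_quot (N : Subgroup G) [N.Normal] (hN : Inv φ N) {Q : Subgroup (G ⧸ N)}
    (hQ : Inv (quot φ N hN) Q) : Inv φ (Q.comap (QuotientGroup.mk' N)) := fun a x hx => hQ a _ hx

/-- An element fixed modulo an abelian stable subgroup of coprime order can be corrected to a fixed
element. -/
theorem lift_abelian [Finite A] [Finite G] (hcop : (Nat.card G).Coprime (Nat.card A))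
    {N : Subgroup G} (hNc : ∀ x ∈ N, ∀ y ∈ N, x * y = y * x) (hNi : Inv φ N) {g : G}
    (hg : ∀ a, g⁻¹ * φ a g ∈ N) : ∃ n ∈ N, ∀ a, φ a (g * n) = g * n := by
  classical
  haveI := Fintype.ofFinite A
  letI : CommGroup N :=
    { (inferInstance : Group N) with mul_comm := fun x y => Subtype.ext (hNc _ x.2 _ y.2) }
  let ψ := restrict φ N hNi
  let f : A → N := fun a => ⟨g⁻¹ * φ a g, hg a⟩
  have hf : ∀ a b, f (a * b) = f a * ψ a (f b) := fun a b => Subtype.ext (by
    simp only [f, Subgroup.coe_mul, ψ, restrict_apply, act_mul]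
    rw [map_mul (φ a), map_inv (φ a)]
    group)
  have hcopN : (Nat.card N).Coprime (Nat.card A) :=
    hcop.coprime_dvd_left (Subgroup.card_subgroup_dvd_card N)
  obtain ⟨k, hk⟩ := S3Fpf.exists_pow_root hcopN (∏ b, f b)
  refine ⟨((∏ b, f b) ^ k : N), SetLike.coe_mem _, fun a => ?_⟩
  set s : N := (∏ b, f b) ^ k
  have key : f a * ψ a s = s := by
    refine mul_inv_eq_one.1 (S3Fpf.eq_one_of_pow_eq_one hcopN ?_)
    rw [mul_pow, mul_pow, inv_pow, hk, ← map_pow, hk, map_prod, mul_inv_eq_one]
    calc f a ^ Nat.card A * ∏ b, ψ a (f b) = ∏ b, f (a * b) := by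
          simp only [hf, Finset.prod_mul_distrib, Finset.prod_const, Finset.card_univ,
            ← Nat.card_eq_fintype_card]
      _ = ∏ b, f b := Fintype.prod_equiv (Equiv.mulLeft a) _ _ fun b => rfl
  calc φ a (g * (s : G)) = g * ((g⁻¹ * φ a g) * φ a (s : G)) := by rw [map_mul]; group
    _ = g * (s : G) := congrArg (g * ·) (congrArg Subtype.val key)

theorem quot_fpf [Finite A] [Finite G] (hcop : (Nat.card G).Coprime (Nat.card A)) (hfpf : Fpf φ)
    (N : Subgroup G) [N.Normal] (hNc : ∀ x ∈ N, ∀ y ∈ N, x * y = y * x) (hNi : Inv φ N) :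
    Fpf (quot φ N hNi) := by
  intro x
  induction x using QuotientGroup.induction_on with
  | H g =>
    intro h
    obtain ⟨n, hn, hgn⟩ := lift_abelian φ hcop hNc hNi (g := g) fun a =>
      QuotientGroup.eq.1 (h a).symm
    rw [QuotientGroup.eq_one_iff]
    rw [eq_inv_of_mul_eq_one_left (hfpf _ hgn)]
    exact inv_mem hn

/-- A solvable group of coprime order has a stable Sylow subgroup. -/
theorem exists_inv_sylow_coprime [Finite A] [Finite G] [Group.IsSolvable G]
    (hcop : (Nat.card G).Coprime (Nat.card A)) (q : ℕ) [Fact q.Prime] :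
    ∃ P : Sylow q G, Inv φ P := by
  haveI : Finite (G ⋊[φ] A) := Finite.of_equiv _ SemidirectProduct.equivProd.symm
  set il : G →* G ⋊[φ] A := SemidirectProduct.inl
  set ir : A →* G ⋊[φ] A := SemidirectProduct.inr
  have hil : Function.Injective il := SemidirectProduct.inl_injective
  have hir : Function.Injective ir := SemidirectProduct.inr_injective
  have hconj : ∀ a x, ir a * il x * (ir a)⁻¹ = il (φ a x) := fun a x =>
    by rw [← map_inv]; exact (SemidirectProduct.inl_aut a x).symm
  haveI : Group.IsSolvable il.range :=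
    Group.isSolvable_of_surjective (f := (MonoidHom.ofInjective hil).toMonoidHom)
      (MonoidHom.ofInjective hil).surjective
  obtain ⟨P, hP⟩ := CoprimeAct.exists_invariant_sylow (A := ir.range) (K := il.range)
    (by
      rintro _ ⟨a, rfl⟩
      rw [Subgroup.mem_normalizer_iff]
      intro y
      constructor
      · rintro ⟨x, rfl⟩
        exact ⟨φ a x, (hconj a x).symm⟩
      · rintro ⟨x, hx⟩
        refine ⟨φ a⁻¹ x, ?_⟩
        rw [← hconj, map_inv, hx]
        group)
    (by
      rw [← Nat.card_congr (MonoidHom.ofInjective hil).toEquiv,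
        ← Nat.card_congr (MonoidHom.ofInjective hir).toEquiv]
      exact hcop.symm)
    (Or.inr inferInstance) q
  set P' := ((P : Subgroup il.range).map il.range.subtype).comap il with hP'
  have hmem : ∀ x : G, x ∈ P' ↔ (⟨il x, x, rfl⟩ : il.range) ∈ (P : Subgroup il.range) := fun x =>
    ⟨fun ⟨y, hy, e⟩ => (Subtype.ext e : y = ⟨il x, x, rfl⟩) ▸ hy, fun h => ⟨_, h, rfl⟩⟩
  have hcard : Nat.card P' = q ^ (Nat.card G).factorization q := by
    have e : Nat.card P' = Nat.card (P : Subgroup il.range) :=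
      Nat.card_congr (Equiv.subtypeEquiv (MonoidHom.ofInjective hil).toEquiv hmem)
    rw [e, P.card_eq_multiplicity, ← Nat.card_congr (MonoidHom.ofInjective hil).toEquiv]
  refine ⟨Sylow.ofCard P' hcard, fun a x hx => ?_⟩
  replace hx : x ∈ P' := hx
  rw [hP', Subgroup.mem_comap] at hx
  have h1 := (Subgroup.mem_normalizer_iff.1 (hP ⟨a, rfl⟩) _).1 hx
  rw [hconj] at h1
  exact h1

section PGroup

variable {p : ℕ} [Fact p.Prime] [Finite G]

theorem exists_inv_sylow (hA : IsPGroup p A) {q : ℕ} [Fact q.Prime]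
    (hd : ¬ p ∣ Nat.card (Sylow q G)) : ∃ P : Sylow q G, Inv φ P := by
  letI : MulDistribMulAction A G := MulDistribMulAction.compHom G φ
  obtain ⟨P, hP⟩ := hA.nonempty_fixed_point_of_prime_not_dvd_card (Sylow q G) hd
  refine ⟨P, fun a x hx => ?_⟩
  have h1 : ((a • P : Sylow q G) : Subgroup G) = (P : Subgroup G) := by rw [hP a]
  rw [← h1, Sylow.pointwise_smul_def]
  exact Subgroup.smul_mem_pointwise_smul x a _ hx

theorem exists_inv_sylow' (hA : IsPGroup p A) (hp : ¬ p ∣ Nat.card G) (q : ℕ) [Fact q.Prime] :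
    ∃ P : Sylow q G, Inv φ P :=
  exists_inv_sylow φ hA fun h => hp (h.trans
    ((Sylow.card_dvd_index (default : Sylow q G)).trans (Subgroup.index_dvd_card _)))

theorem not_dvd_card (hA : IsPGroup p A) (hfpf : Fpf φ) : ¬ p ∣ Nat.card G := by
  intro hd
  obtain ⟨P, hP⟩ := exists_inv_sylow φ hA (q := p) (not_dvd_card_sylow p G)
  letI : MulAction A (P : Subgroup G) := MulAction.compHom _ (restrict φ P hP)
  obtain ⟨x, hx, hx1⟩ := hA.exists_fixed_point_of_prime_dvd_card_of_fixed_point
    (P : Subgroup G) (P.dvd_card_of_dvd_card hd) (a := 1) fun a => map_one (restrict φ P hP a)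
  exact hx1 (Subtype.ext (hfpf _ fun a => congrArg Subtype.val (hx a))).symm

theorem coprime_card [Finite A] (hA : IsPGroup p A) (hp : ¬ p ∣ Nat.card G) :
    (Nat.card G).Coprime (Nat.card A) := by
  obtain ⟨n, hn⟩ := hA.exists_card_eq
  rw [hn]
  exact (((Fact.out : p.Prime).coprime_iff_not_dvd.2 hp).symm).pow_right n

/-- Fixed elements of non-trivial operators generate. -/
theorem generated {Q : Type*} [Group Q] [Finite Q] [Group.IsNilpotent Q] [Finite A]
    (ψ : A →* MulAut Q) (hcard : Nat.card A = p ^ 2) (hexp : ∀ a : A, a ^ p = 1)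
    (hcop : p.Coprime (Nat.card Q)) (X : Subgroup Q)
    (hX : ∀ a, a ≠ 1 → ∀ x, ψ a x = x → x ∈ X) : X = ⊤ := by
  haveI : Finite (Q ⋊[ψ] A) := Finite.of_equiv _ SemidirectProduct.equivProd.symm
  set il : Q →* Q ⋊[ψ] A := SemidirectProduct.inl
  set ir : A →* Q ⋊[ψ] A := SemidirectProduct.inr
  have hil : Function.Injective il := SemidirectProduct.inl_injective
  have hir : Function.Injective ir := SemidirectProduct.inr_injective
  haveI : Group.IsNilpotent il.range :=
    Group.nilpotent_of_mulEquiv (MonoidHom.ofInjective hil)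
  have hconj : ∀ a x, ir a * il x * (ir a)⁻¹ = il (ψ a x) := fun a x =>
    by rw [← map_inv]; exact (SemidirectProduct.inl_aut a x).symm
  have hle := CoprimeAct.generated_of_elementary_nilpotent (P := il.range) (X := X.map il)
    (E := ir.range) (Fact.out : p.Prime)
    (by rw [← hcard, Nat.card_congr (MonoidHom.ofInjective hir).toEquiv])
    (fun e => by
      obtain ⟨a, ha⟩ := e.2
      exact Subtype.ext (by rw [Subgroup.coe_pow, ← ha, ← map_pow, hexp, map_one, Subgroup.coe_one]))
    (by
      rintro _ ⟨a, rfl⟩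
      rw [Subgroup.mem_normalizer_iff]
      intro y
      constructor
      · rintro ⟨x, rfl⟩
        exact ⟨ψ a x, (hconj a x).symm⟩
      · rintro ⟨x, hx⟩
        refine ⟨ψ a⁻¹ x, ?_⟩
        rw [← hconj, map_inv, hx]
        group)
    (by rw [← Nat.card_congr (MonoidHom.ofInjective hil).toEquiv]; exact hcop)
    (by
      rintro _ ⟨a, rfl⟩ ha _ ⟨⟨x, rfl⟩, hc⟩
      refine ⟨x, hX a (fun h => ha (by rw [h, map_one])) x (hil ?_), rfl⟩
      replace hc := Subgroup.mem_centralizer_singleton_iff.1 hc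
      rw [← hconj, ← hc, mul_inv_cancel_right])
  rw [eq_top_iff]
  intro x _
  obtain ⟨y, hy, hyx⟩ := hle ⟨x, rfl⟩
  exact hil hyx ▸ hy

end PGroup

end Cfsg.Agent.OpFpf
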