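import Cfsg.Agent.Lib.FiniteGroup.OpFpf.Reduction

/-!
A fixed-point-free automorphism of order dividing four of a solvable group forces a nilpotent
derived group.
-/

set_option autoImplicit false
set_option linter.style.haveILetI false
set_option linter.unusedSectionVars false

namespace Cfsg.Agent.OpFpf

open scoped commutatorElement

universe u v

section Fixed

variable {A : Type*} [Group A] {G : Type*} [Group G] [Finite G] (φ : A →* MulAut G) {s : A}

/-- Elements fixed by the square of a generator are inverted by the generator. -/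
theorem inverted_of_fixed_sq (hgen : ∀ a, a ∈ Subgroup.zpowers s) (hfpf : Fpf φ) {x : G}
    (hx : φ (s ^ 2) x = x) : φ s x = x⁻¹ := by
  have h1 : ∀ y, φ s y = y → y = 1 := fun y hy => hfpf y fun a => by
    obtain ⟨k, rfl⟩ := hgen a
    have : φ s ∈ MulAction.stabilizer (MulAut G) y := hy
    change φ (s ^ k) y = y
    rw [map_zpow]
    exact Subgroup.zpow_mem _ this k
  let F : Subgroup G := MonoidHom.eqLocus (φ (s ^ 2)).toMonoidHom (MonoidHom.id G)
  have hF : ∀ {y}, y ∈ F → φ s (φ s y) = y := fun {y} hy => by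
    rw [← act_mul, ← pow_two]
    exact hy
  have hFs : ∀ y ∈ F, φ s y ∈ F := fun y hy => by
    change φ (s ^ 2) (φ s y) = φ s y
    rw [← act_mul, ← pow_succ, pow_succ', act_mul]
    exact congrArg (φ s) hy
  let f : F → F := fun y => ⟨(y : G)⁻¹ * φ s y, mul_mem (inv_mem y.2) (hFs y y.2)⟩
  have hf : Function.Injective f := by
    intro y z h
    have h' : (y : G)⁻¹ * φ s y = (z : G)⁻¹ * φ s z := congrArg Subtype.val h
    have h'' : φ s ((z : G) * (y : G)⁻¹) = (z : G) * (y : G)⁻¹ := by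
      rw [map_mul, map_inv]
      calc φ s (z : G) * (φ s (y : G))⁻¹
          = (z : G) * ((z : G)⁻¹ * φ s z) * ((y : G)⁻¹ * φ s y)⁻¹ * (y : G)⁻¹ := by group
        _ = _ := by rw [h', mul_inv_cancel_right]
    exact Subtype.ext (mul_inv_eq_one.1 (h1 _ h'')).symm
  obtain ⟨y, hy⟩ := Finite.injective_iff_surjective.1 hf ⟨x, hx⟩
  have hy' : (y : G)⁻¹ * φ s y = x := congrArg Subtype.val hy
  rw [← hy', map_mul, map_inv, hF y.2, mul_inv_rev, inv_inv]

end Fixed

theorem lcs_one_eq_bot {H : Type*} [Group H] (h : ∀ x y : H, x * y = y * x) :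
    (⊤ : Subgroup H).lowerCentralSeries 1 = ⊥ := by
  rw [Subgroup.lowerCentralSeries_succ, Subgroup.lowerCentralSeries_zero,
    Subgroup.commutator_eq_bot_iff_le_centralizer]
  exact fun a _ => Subgroup.mem_centralizer_iff.2 fun b _ => h b a

namespace Rep

variable {A H : Type*} [Group A] [Group H] {W : Type*} [AddCommGroup W] {ψ : A →* MulAut H}
  (R : Rep ψ W) {s : A}

/-- The hypotheses on the two powers of the operator. -/
structure IsFour (s : A) : Prop where
  gen : ∀ a, a ∈ Subgroup.zpowers s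
  four : s ^ 4 = 1
  two : s ^ 2 ≠ 1
  inverted : ∀ c, ψ (s ^ 2) c = c → ψ s c = c⁻¹
  centr : ∀ c v, ψ (s ^ 2) c = c → R.σ (s ^ 2) v = v → R.ρ c v = v

variable {R} (F : R.IsFour s)

include F in
theorem IsFour.order : orderOf (s ^ 2) = 2 :=
  orderOf_eq_prime (by rw [← pow_mul]; exact F.four) F.two

include F in
theorem IsFour.comm (a b : A) : a * b = b * a := by
  obtain ⟨i, rfl⟩ := F.gen a
  obtain ⟨j, rfl⟩ := F.gen b
  exact (Commute.zpow_zpow_self s i j).eq

include F in
theorem IsFour.act_comm (a b : A) (x : H) : ψ a (ψ b x) = ψ b (ψ a x) := by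
  rw [← act_mul, F.comm, act_mul]

include F in
theorem IsFour.coprime_two : (Nat.card H).Coprime 2 := by
  haveI := R.finA
  exact R.copAH.coprime_dvd_right (F.order ▸ orderOf_dvd_natCard (s ^ 2))

include F in
theorem IsFour.ii (x : H) : ψ (s ^ 2) (ψ (s ^ 2) x) = x := by
  rw [← act_mul, ← pow_add, F.four, act_one]

include F in
theorem IsFour.exists_pow (a : A) : ∃ k : ℕ, a = s ^ k := by
  haveI := R.finA
  exact ((isOfFinOrder_of_finite s).mem_powers_iff_mem_zpowers.2 (F.gen a)).imp fun _ h => h.symm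

section Abelian

variable {N : Subgroup H} (hNn : N.Normal) (hNi : Inv ψ N)
  (hNc : ∀ x ∈ N, ∀ y ∈ N, x * y = y * x) [Nontrivial N]

include F hNn hNi hNc

theorem IsFour.stable {B : Subgroup H} (hB : R.IsMax N B) : mp (ψ (s ^ 2)) B = B := by
  obtain ⟨⟨a, ha⟩, ha1⟩ :=
    Subgroup.ne_bot_iff_exists_ne_one.1 (R.opStab_ne_bot hNn hNi hNc hB)
  obtain ⟨k, rfl⟩ := F.exists_pow a
  have hii : (s ^ 2) ^ 2 = 1 := by rw [← pow_mul]; exact F.four
  rcases Nat.even_or_odd k with ⟨m, rfl⟩ | ⟨m, rfl⟩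
  · rcases Nat.even_or_odd m with ⟨j, rfl⟩ | ⟨j, rfl⟩
    · refine absurd (Subtype.ext ?_) ha1
      change s ^ (j + j + (j + j)) = 1
      rw [show j + j + (j + j) = 4 * j by ring, pow_mul, F.four, one_pow]
    · rw [show 2 * j + 1 + (2 * j + 1) = 4 * j + 2 by ring, pow_add, pow_mul, F.four, one_pow,
        one_mul] at ha
      exact ha
  · have h := mul_mem ha ha
    rw [← pow_add, show 2 * m + 1 + (2 * m + 1) = 4 * m + 2 by ring, pow_add, pow_mul, F.four,
      one_pow, one_mul] at h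
    exact h

/-- A component is centralized modulo its kernel, or inverted, stable, and containing fixed
vectors. -/
theorem IsFour.component {B : Subgroup H} (hB : R.IsMax N B) :
    (∀ n ∈ N, n * (ψ (s ^ 2) n)⁻¹ ∈ B) ∨
      ((∀ n ∈ N, n * ψ (s ^ 2) n ∈ B) ∧ mp (ψ s) B = B ∧
        ∃ v ∈ R.fix B, R.σ (s ^ 2) v = v ∧ v ≠ 0) := by
  have hst := F.stable hNn hNi hNc hB
  by_cases h0 : ∀ v ∈ R.fix B, R.σ (s ^ 2) v = v → v = 0
  · left
    intro n hn
    refine R.mem_of_fix_all hB (mul_mem hn (inv_mem (hNi _ n hn))) fun u hu => ?_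
    exact R.act_fix Nat.prime_two F.order hNc (fun x hx => hNi _ x hx)
      (R.coprime_abelian hNn hNi hNc) (fun v hv => hst ▸ R.fix_act _ hv)
      (fun x hx v hv => R.fix_stable hNc hB.1 hx hv) h0 hn hu
  · right
    push Not at h0
    obtain ⟨v, hv, hiv, hv0⟩ := h0
    refine ⟨fun n hn => ?_, ?_, v, hv, hiv, hv0⟩
    · by_contra hnB
      refine hv0 (R.eq_zero_of_fixed hB (mul_mem hn (hNi _ n hn)) hnB hv (F.centr _ _ ?_ hiv))
      rw [map_mul, F.ii]
      exact hNc _ (hNi _ n hn) n hn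
    · by_contra hsB
      refine hv0 (R.no_fixed hNn hNi hNc hB hv fun a ha => ?_)
      obtain ⟨k, rfl⟩ := F.exists_pow a
      rcases Nat.even_or_odd k with ⟨m, rfl⟩ | ⟨m, rfl⟩
      · refine R.σ_fix_of_mem_zpowers ?_ hiv
        rw [← two_mul, pow_mul]
        exact Subgroup.npow_mem_zpowers _ m
      · refine absurd ?_ hsB
        have h := pow_mem ha (2 * m + 1)
        rw [← pow_mul, show (2 * m + 1) * (2 * m + 1) = 4 * (m * m + m) + 1 by ring, pow_add,
          pow_mul, F.four, one_pow, one_mul, pow_one] at h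
        exact h

theorem IsFour.exclusive {B : Subgroup H} (hB : R.IsMax N B)
    (hA : ∀ n ∈ N, n * (ψ (s ^ 2) n)⁻¹ ∈ B) (hI : ∀ n ∈ N, n * ψ (s ^ 2) n ∈ B) : False := by
  haveI := R.finH
  refine R.isMax_lt hNn hNi hB fun n hn => S3Fpf.mem_of_pow_mem F.coprime_two B ?_
  have := mul_mem (hA n hn) (hI n hn)
  rwa [hNc n hn (ψ (s ^ 2) n) (hNi _ n hn), mul_assoc n, inv_mul_cancel_left, ← pow_two] at this

theorem IsFour.no_switch {B : Subgroup H} (hB : R.IsMax N B) (h : H)
    (hA : ∀ n ∈ N, n * (ψ (s ^ 2) n)⁻¹ ∈ B)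
    (hI : ∀ n ∈ N, n * ψ (s ^ 2) n ∈ mp (MulAut.conj h) B) : False := by
  haveI := R.finH
  set u := h⁻¹ * ψ (s ^ 2) h with hu
  have huB : u ∈ conjStab B := by
    have h1 := F.stable hNn hNi hNc (R.isMax_conj hNn h hB)
    rw [mp_comm, F.stable hNn hNi hNc hB] at h1
    have h2 := congrArg (mp (MulAut.conj h⁻¹)) h1
    rw [mp_mp, mp_mp, ← map_mul, ← map_mul, inv_mul_cancel, map_one, mp_one] at h2
    exact h2
  have hconj : ∀ x ∈ N, x * (u * x * u⁻¹) ∈ B := by
    intro x hx
    obtain ⟨b, hb, hbe⟩ := hI (h * x * h⁻¹) (hNn.conj_mem x hx h)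
    have hbe' : h * b * h⁻¹ = h * x * h⁻¹ * ψ (s ^ 2) (h * x * h⁻¹) := hbe
    have hb' : b = x * (u * ψ (s ^ 2) x * u⁻¹) := by
      calc b = h⁻¹ * (h * b * h⁻¹) * h := by group
        _ = _ := by
          rw [hbe', hu, map_mul, map_mul, map_inv (ψ (s ^ 2))]
          group
    have h3 := mul_mem (hb' ▸ hb) (conj_mem_of_mp huB (hA x hx))
    have e : x * (u * ψ (s ^ 2) x * u⁻¹) * (u * (x * (ψ (s ^ 2) x)⁻¹) * u⁻¹) =
        x * (u * x * u⁻¹) := by
      rw [hNc x hx (ψ (s ^ 2) x)⁻¹ (inv_mem (hNi _ x hx))]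
      group
    rwa [e] at h3
  have hiter : ∀ k : ℕ, ∀ x ∈ N, (Even k → x⁻¹ * (u ^ k * x * (u ^ k)⁻¹) ∈ B) ∧
      (Odd k → x * (u ^ k * x * (u ^ k)⁻¹) ∈ B) := by
    intro k
    induction k with
    | zero =>
      intro x _
      refine ⟨fun _ => ?_, fun h => absurd h (by simp)⟩
      simp
    | succ k ih =>
      intro x hx
      have hy : u * x * u⁻¹ ∈ N := hNn.conj_mem x hx u
      obtain ⟨i1, i2⟩ := ih _ hy
      have e : u ^ (k + 1) * x * (u ^ (k + 1))⁻¹ = u ^ k * (u * x * u⁻¹) * (u ^ k)⁻¹ := by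
        rw [pow_succ]; group
      refine ⟨fun hev => ?_, fun hod => ?_⟩
      · have h2 := mul_mem (inv_mem (hconj x hx)) (i2 (by rwa [Nat.even_add_one,
          Nat.not_even_iff_odd] at hev))
        rw [e]
        rwa [hNc x hx _ hy, mul_inv_rev, mul_assoc, inv_mul_cancel_left] at h2
      · have h2 := mul_mem (hconj x hx) (i1 (by rwa [Nat.odd_add_one,
          Nat.not_odd_iff_even] at hod))
        rw [e]
        rwa [mul_assoc, mul_inv_cancel_left] at h2
  refine R.isMax_lt hNn hNi hB fun x hx => S3Fpf.mem_of_pow_mem F.coprime_two B ?_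
  have hodd : Odd (orderOf u) :=
    Nat.coprime_two_right.1 (F.coprime_two.coprime_dvd_left (orderOf_dvd_natCard u))
  have h5 := (hiter _ x hx).2 hodd
  rw [pow_orderOf_eq_one, one_mul, inv_one, mul_one, ← pow_two] at h5
  exact h5

/-- The square of the operator is trivial on `N`, or inverts it with all components stable. -/
theorem IsFour.dichotomy [Nontrivial W] :
    (∀ n ∈ N, ψ (s ^ 2) n = n) ∨ ((∀ n ∈ N, ψ (s ^ 2) n = n⁻¹) ∧
      ∀ B, R.IsMax N B → mp (ψ s) B = B ∧ ∃ v ∈ R.fix B, R.σ (s ^ 2) v = v ∧ v ≠ 0) := by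
  by_cases hex : ∃ B, R.IsMax N B ∧ ∀ n ∈ N, n * (ψ (s ^ 2) n)⁻¹ ∈ B
  · left
    obtain ⟨B₀, hB₀, hA₀⟩ := hex
    have hA₁ : ∀ n ∈ N, n * (ψ (s ^ 2) n)⁻¹ ∈ mp (ψ s) B₀ := by
      intro n hn
      refine ⟨_, hA₀ (ψ s⁻¹ n) (hNi _ n hn), ?_⟩
      change ψ s (ψ s⁻¹ n * (ψ (s ^ 2) (ψ s⁻¹ n))⁻¹) = _
      rw [map_mul, map_inv (ψ s), F.act_comm s (s ^ 2), act_act_inv]
    set S : Set (Subgroup H) :=
      {B | ∃ h, B = mp (MulAut.conj h) B₀ ∨ B = mp (MulAut.conj h) (mp (ψ s) B₀)}
    have hne : ∃ B ∈ S, R.fix B ≠ ⊥ :=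
      ⟨B₀, ⟨1, Or.inl (by rw [map_one, mp_one])⟩, hB₀.2.1⟩
    have hSc : ∀ B ∈ S, ∀ h, mp (MulAut.conj h) B ∈ S := by
      rintro _ ⟨k, rfl | rfl⟩ h
      · exact ⟨h * k, Or.inl (by rw [mp_mp, ← map_mul])⟩
      · exact ⟨h * k, Or.inr (by rw [mp_mp (MulAut.conj h), ← map_mul])⟩
    have hSs : ∀ B ∈ S, mp (ψ s) B ∈ S := by
      rintro _ ⟨k, rfl | rfl⟩
      · exact ⟨ψ s k, Or.inr (mp_comm ψ s k B₀)⟩
      · refine ⟨ψ s k, Or.inl ?_⟩
        rw [mp_comm, mp_mp (ψ s), ← map_mul, ← pow_two, F.stable hNn hNi hNc hB₀]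
    have hSa : ∀ B ∈ S, ∀ a, mp (ψ a) B ∈ S := by
      intro B hB a
      obtain ⟨k, rfl⟩ := F.exists_pow a
      induction k with
      | zero => rwa [pow_zero, map_one, mp_one]
      | succ k ih =>
        rw [pow_succ', map_mul, ← mp_mp]
        exact hSs _ ih
    intro n hn
    refine (mul_inv_eq_one.1 (R.kill_all hNn hNi (g := n * (ψ (s ^ 2) n)⁻¹)
      fun B hB v hv => R.mem_fix.1 hv _ ?_)).symm
    rcases F.component hNn hNi hNc hB with h | ⟨hI, -, -⟩
    · exact h n hn
    exfalso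
    have hmem : B ∈ S := by
      by_contra hBS
      refine hB.2.1 ((AddSubgroup.eq_bot_iff_forall _).2 fun v hv => ?_)
      refine R.eq_zero_card hNn hNi hNc hB.1 ?_
      rw [← R.avg_of_fix hv]
      have hv' : v ∈ AddSubgroup.closure {v : W | ∃ C ∈ S, v ∈ R.fix C} :=
        R.family_top hne hSc hSa ▸ AddSubgroup.mem_top v
      clear hv
      induction hv' using AddSubgroup.closure_induction with
      | mem u hu =>
        obtain ⟨C, hC, hu⟩ := hu
        refine R.avg_of_ne hNc hB ?_ (fun e => hBS (e ▸ hC)) hu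
        obtain ⟨k, rfl | rfl⟩ := hC
        · exact R.isMax_conj hNn k hB₀
        · exact R.isMax_conj hNn k (R.isMax_act hNi s hB₀)
      | zero => rw [map_zero]
      | add u w _ _ e1 e2 => rw [map_add, e1, e2, add_zero]
      | neg u _ e1 => rw [map_neg, e1, neg_zero]
    obtain ⟨k, rfl | rfl⟩ := hmem
    · exact F.no_switch hNn hNi hNc hB₀ k hA₀ hI
    · exact F.no_switch hNn hNi hNc (R.isMax_act hNi s hB₀) k hA₁ hI
  · right
    push Not at hex
    have hall : ∀ B, R.IsMax N B → (∀ n ∈ N, n * ψ (s ^ 2) n ∈ B) ∧ mp (ψ s) B = B ∧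
        ∃ v ∈ R.fix B, R.σ (s ^ 2) v = v ∧ v ≠ 0 := fun B hB =>
      (F.component hNn hNi hNc hB).resolve_left fun h => by
        obtain ⟨n, hn, hn'⟩ := hex B hB
        exact hn' (h n hn)
    refine ⟨fun n hn => eq_inv_of_mul_eq_one_right ?_, fun B hB => (hall B hB).2⟩
    exact R.kill_all hNn hNi fun B hB v hv => R.mem_fix.1 hv _ ((hall B hB).1 n hn)

end Abelian

include F in
theorem IsFour.commute_of_fixed {x y : H} (hx : ψ (s ^ 2) x = x) (hy : ψ (s ^ 2) y = y) :
    Commute x y := by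
  have h := F.inverted (x * y) (by rw [map_mul, hx, hy])
  rw [map_mul, F.inverted x hx, F.inverted y hy, mul_inv_rev] at h
  exact Commute.inv_inv_iff.1 h

/-- The subgroup generated by the commutators with an operator. -/
def commOp (ψ : A →* MulAut H) (a : A) : Subgroup H :=
  Subgroup.closure (Set.range fun h : H => h⁻¹ * ψ a h)

theorem mem_commOp (a : A) (h : H) : h⁻¹ * ψ a h ∈ commOp ψ a := Subgroup.subset_closure ⟨h, rfl⟩

theorem commOp_normal (a : A) : (commOp ψ a).Normal := by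
  refine ⟨fun n hn g => ?_⟩
  refine (Subgroup.closure_le
    (K := (commOp ψ a).comap (MulAut.conj g).toMonoidHom)).2 ?_ hn
  rintro _ ⟨h, rfl⟩
  change g * (h⁻¹ * ψ a h) * g⁻¹ ∈ commOp ψ a
  have e : g * (h⁻¹ * ψ a h) * g⁻¹ =
      (h * g⁻¹)⁻¹ * ψ a (h * g⁻¹) * (g * ψ a g⁻¹)⁻¹ := by
    rw [map_mul]; group
  rw [e]
  refine mul_mem (mem_commOp a _) (inv_mem ?_)
  have := mem_commOp (ψ := ψ) a g⁻¹
  rwa [inv_inv] at this

include F in
theorem IsFour.commOp_inv (a : A) : Inv ψ (commOp ψ a) := by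
  refine inv_closure ψ ?_
  rintro b _ ⟨h, rfl⟩
  rw [map_mul, map_inv (ψ b), F.act_comm b a]
  exact mem_commOp a _

/-- In the minimal configuration the group is abelian. -/
theorem IsFour.commutative (F : R.IsFour s) [Group.IsSolvable H] [Nontrivial W]
    (hsub : ∀ K : Subgroup H, Inv ψ K → K ≠ ⊤ → ∀ x ∈ K, ∀ y ∈ K, x * y = y * x) (x y : H) :
    x * y = y * x := by
  haveI := R.finH
  set i := s ^ 2 with hi
  have hfix : (∀ h, ψ i h = h) → x * y = y * x := fun h => (F.commute_of_fixed (h x) (h y)).eq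
  have hdiff : ∀ h, ψ i (h⁻¹ * ψ i h) = (h⁻¹ * ψ i h)⁻¹ := fun h => by
    rw [map_mul, map_inv (ψ i), F.ii, mul_inv_rev, inv_inv]
  have hfix_of : ∀ h, ψ i (h⁻¹ * ψ i h) = h⁻¹ * ψ i h → ψ i h = h := fun h e => by
    refine (inv_mul_eq_one.1 (S3Fpf.eq_one_of_pow_eq_one F.coprime_two ?_)).symm
    rw [pow_two]
    nth_rw 1 [← e]
    rw [hdiff, inv_mul_cancel]
  set M := commOp ψ i with hM
  have hMn : M.Normal := commOp_normal i
  have hMi : Inv ψ M := F.commOp_inv i
  by_cases hMtop : M = ⊤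
  swap
  · have hMc := hsub M hMi hMtop
    rcases subsingleton_or_nontrivial M with hs | hnt
    · refine hfix fun h => (inv_mul_eq_one.1 ?_).symm
      exact congrArg Subtype.val (Subsingleton.elim (⟨_, mem_commOp i h⟩ : M) 1)
    rcases F.dichotomy hMn hMi hMc with hA | ⟨hI, hcomp⟩
    · exact hfix fun h => hfix_of h (hA _ (mem_commOp i h))
    -- fixed elements centralize `M`
    have hcen : ∀ c, ψ i c = c → ∀ m ∈ M, c * m = m * c := by
      intro c hc m hm
      rw [← commutatorElement_eq_one_iff_mul_comm]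
      refine R.kill_all hMn hMi fun B hB v hv => R.mem_fix.1 hv _ ?_
      obtain ⟨hsB, w, hw, hiw, hw0⟩ := hcomp B hB
      have hcB : mp (MulAut.conj c) B = B := by
        by_contra hne
        have h1 := R.fix_conj c hw
        rw [F.centr c w hc hiw] at h1
        exact hw0 (R.disjoint hMn hMi hMc hB (R.isMax_conj hMn c hB) (Ne.symm hne) hw h1)
      obtain ⟨g, hg, hgen⟩ := R.exists_generator hMc hB.1 (U := R.fix B)
        (fun z hz u hu => R.fix_stable hMc hB.1 hz hu) le_rfl hB.2.1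
        (R.coprime_abelian hMn hMi hMc)
        (fun z hz hzB u hu hzu => R.eq_zero_of_fixed hB hz hzB hu hzu)
      obtain ⟨k, hk⟩ := hgen _ (hMn.conj_mem g hg c)
      letI : CommGroup M :=
        { (inferInstance : Group M) with mul_comm := fun a b => Subtype.ext (hMc _ a.2 _ b.2) }
      -- conjugation by `c` is the `k`-th power modulo `B`
      have hpow : ∀ z ∈ M, c * z * c⁻¹ * (z ^ k)⁻¹ ∈ B := by
        intro z hz
        obtain ⟨j, hj⟩ := hgen z hz
        have h1 := conj_mem_of_mp hcB hj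
        have h2 := B.pow_mem hk j
        have h3 := B.inv_mem (B.pow_mem hj k)
        have key : ∀ (Z G₀ Z' G' : M), Z' * (G' ^ j)⁻¹ * (G' * (G₀ ^ k)⁻¹) ^ j *
            ((Z * (G₀ ^ j)⁻¹) ^ k)⁻¹ = Z' * (Z ^ k)⁻¹ := by
          intro Z G₀ Z' G'
          rw [mul_pow, mul_pow, inv_pow, inv_pow, ← pow_mul, ← pow_mul, mul_comm k j, mul_inv_rev,
            inv_inv]
          apply Additive.ofMul.injective
          simp only [ofMul_mul, ofMul_inv]
          abel
        have key' := congrArg Subtype.val (key ⟨z, hz⟩ ⟨g, hg⟩ ⟨_, hMn.conj_mem z hz c⟩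
          ⟨_, hMn.conj_mem g hg c⟩)
        simp only [Subgroup.coe_mul, Subgroup.coe_inv, SubmonoidClass.coe_pow] at key'
        rw [← key']
        refine mul_mem (mul_mem ?_ h2) h3
        convert h1 using 1
        rw [conj_pow]
        group
      -- transport by `s`
      have hsq : ∀ z ∈ M, c ^ 2 * z * (c ^ 2)⁻¹ * z⁻¹ ∈ B := by
        intro z hz
        have h1 := mem_of_mp_eq hsB (hpow (ψ s⁻¹ z) (hMi _ z hz))
        rw [map_mul, map_inv (ψ s), map_pow (ψ s), map_mul, map_mul, map_inv (ψ s),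
          F.inverted c hc, act_act_inv, inv_inv] at h1
        have h2 := mul_mem (hpow z hz) (B.inv_mem h1)
        have h3 := conj_mem_of_mp hcB h2
        convert h3 using 1
        rw [pow_two]
        group
      obtain ⟨j, hj⟩ := S3Fpf.exists_pow_root F.coprime_two c
      have hpows : ∀ n : ℕ, ∀ z ∈ M, (c ^ 2) ^ n * z * ((c ^ 2) ^ n)⁻¹ * z⁻¹ ∈ B := by
        intro n
        induction n with
        | zero => intro z _; simp
        | succ n ih =>
          intro z hz
          have h1 := mul_mem (ih _ (hMn.conj_mem z hz (c ^ 2))) (hsq z hz)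
          convert h1 using 1
          group
      have h4 := hpows j m hm
      rw [← pow_mul, mul_comm, pow_mul, hj] at h4
      rw [commutatorElement_def]
      exact h4
    have hdec : ∀ h, ∃ c, ψ i c = c ∧ ∃ m ∈ M, h = c * m := by
      intro h
      obtain ⟨j, hj⟩ := S3Fpf.exists_pow_root F.coprime_two (h⁻¹ * ψ i h)
      set n := (h⁻¹ * ψ i h) ^ j with hn
      have hnM : n ∈ M := M.pow_mem (mem_commOp i h) j
      refine ⟨h * n, ?_, n⁻¹, inv_mem hnM, by rw [mul_inv_cancel_right]⟩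
      rw [map_mul, hI n hnM]
      have : ψ i h = h * n ^ 2 := by rw [hj, mul_inv_cancel_left]
      rw [this]
      group
    obtain ⟨c, hc, m, hm, rfl⟩ := hdec x
    obtain ⟨d, hd, n, hn, rfl⟩ := hdec y
    have e1 : Commute c d := F.commute_of_fixed hc hd
    have e2 : Commute c n := hcen c hc n hn
    have e3 : Commute m d := (hcen d hd m hm).symm
    have e4 : Commute m n := hMc m hm n hn
    exact ((e1.mul_right e2).mul_left (e3.mul_right e4)).eq
  · rcases subsingleton_or_nontrivial H with hs | hs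
    · exact Subsingleton.elim _ _
    by_cases hbot : commutator H = ⊥
    · refine commutatorElement_eq_one_iff_mul_comm.1 ?_
      rw [← Subgroup.mem_bot, ← hbot, commutator_def]
      exact Subgroup.commutator_mem_commutator trivial trivial
    haveI : Nontrivial (commutator H) := (Subgroup.nontrivial_iff_ne_bot _).2 hbot
    have hne : commutator H ≠ ⊤ := (Group.IsSolvable.commutator_lt_top_of_nontrivial H).ne
    have hNi : Inv ψ (commutator H) := inv_of_characteristic ψ inferInstance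
    have hNn : (commutator H).Normal := inferInstance
    have hC : ∀ c, ψ i c = c → c ∈ commutator H := by
      intro c hc
      have h1 : Abelianization.of (ψ i c) = (Abelianization.of c)⁻¹ := by
        have hle : M ≤ MonoidHom.eqLocus ((Abelianization.of (G := H)).comp (ψ i).toMonoidHom)
            (Abelianization.of (G := H))⁻¹ := by
          rw [hM, commOp, Subgroup.closure_le]
          rintro _ ⟨h, rfl⟩
          change Abelianization.of (ψ i (h⁻¹ * ψ i h)) = (Abelianization.of (h⁻¹ * ψ i h))⁻¹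
          rw [hdiff, map_inv]
        exact hle (hMtop ▸ Subgroup.mem_top c)
      rw [hc, eq_inv_iff_mul_eq_one, ← map_mul, ← pow_two] at h1
      refine S3Fpf.mem_of_pow_mem F.coprime_two _ ?_
      rwa [← Abelianization.ker_of, MonoidHom.mem_ker]
    rcases F.dichotomy hNn hNi (hsub _ hNi hne) with hA | ⟨hI, -⟩
    · -- the derived group is central
      have hcen : ∀ n ∈ commutator H, ∀ h, n * h = h * n := by
        intro n hn
        have hle : M ≤ Subgroup.centralizer {n} := by
          rw [hM, commOp, Subgroup.closure_le]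
          rintro _ ⟨h, rfl⟩
          rw [SetLike.mem_coe, Subgroup.mem_centralizer_singleton_iff]
          have h1 := hA (h * n * h⁻¹) (hNn.conj_mem n hn h)
          rw [map_mul, map_mul, map_inv (ψ i), hA n hn] at h1
          calc h⁻¹ * ψ i h * n = h⁻¹ * (ψ i h * n * (ψ i h)⁻¹) * ψ i h := by group
            _ = n * (h⁻¹ * ψ i h) := by rw [h1]; group
        intro h
        exact (Subgroup.mem_centralizer_singleton_iff.1 (hle (hMtop ▸ Subgroup.mem_top h))).symm
      obtain ⟨⟨z, hz⟩, hz'⟩ := Subgroup.ne_bot_iff_exists_ne_one.1 hbot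
      have hz1 : z ≠ 1 := fun h => hz' (Subtype.ext h)
      have hzero : ∀ w, R.σ i w = w → w = 0 := by
        intro w hw
        rcases R.irred (R.fix (Subgroup.zpowers z))
          (fun h v hv => fun g hg => by
            rw [mem_stab, ← ρmul, show g * h = h * g from
              hcen g (Subgroup.zpowers_le.2 hz hg) h, ρmul, R.mem_fix.1 hv g hg])
          (fun a v hv => by
            obtain ⟨k, rfl⟩ := F.exists_pow a
            induction k with
            | zero => rwa [pow_zero, R.σone]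
            | succ k ih =>
              rw [pow_succ', R.σmul]
              have h1 := R.fix_act s ih
              rwa [show mp (ψ s) (Subgroup.zpowers z) = Subgroup.zpowers z by
                rw [mp, MonoidHom.map_zpowers]
                change Subgroup.zpowers (ψ s z) = _
                rw [F.inverted z (hA z hz), Subgroup.zpowers_inv]] at h1) with hU | hU
        · have h1 : R.ρ z w = w := F.centr z w (hA z hz) hw
          have h2 : w ∈ R.fix (Subgroup.zpowers z) :=
            (Subgroup.zpowers_le.2 (R.mem_stab.2 h1) : Subgroup.zpowers z ≤ R.stab w)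
          rwa [hU, AddSubgroup.mem_bot] at h2
        · exact absurd (R.faithful z fun v => R.mem_fix.1 (hU ▸ AddSubgroup.mem_top v) z
            (Subgroup.mem_zpowers z)) hz1
      have hneg : ∀ v, R.σ i v = -v := fun v => by
        refine eq_neg_of_add_eq_zero_right (hzero (v + R.σ i v) ?_)
        rw [map_add, ← R.σmul, hi, ← pow_add, F.four, R.σone, add_comm]
      refine hfix fun h => (inv_mul_eq_one.1 (R.faithful _ fun v => ?_)).symm
      have h1 := R.hσ i h v
      rw [hneg, hneg, map_neg, neg_inj] at h1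
      rw [ρmul, ← h1, ρinv]
    · -- a fixed-point-free involution
      have hfree : ∀ c, ψ i c = c → c = 1 := fun c hc => by
        have h1 := hI c (hC c hc)
        rw [hc, eq_inv_iff_mul_eq_one, ← pow_two] at h1
        exact S3Fpf.eq_one_of_pow_eq_one F.coprime_two h1
      have hinv : ∀ h, ψ i h = h⁻¹ := by
        let f : H → H := fun h => h⁻¹ * ψ i h
        have hf : Function.Injective f := by
          intro a b e
          have e' : a⁻¹ * ψ i a = b⁻¹ * ψ i b := e
          refine (mul_inv_eq_one.1 (hfree (b * a⁻¹) ?_)).symm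
          rw [map_mul, map_inv]
          calc ψ i b * (ψ i a)⁻¹ = b * (b⁻¹ * ψ i b) * (a⁻¹ * ψ i a)⁻¹ * a⁻¹ := by group
            _ = _ := by rw [e', mul_inv_cancel_right]
        intro h
        obtain ⟨g, rfl⟩ := Finite.injective_iff_surjective.1 hf h
        exact hdiff g
      have := hinv (x * y)
      rw [map_mul, hinv, hinv, mul_inv_rev] at this
      exact (Commute.inv_inv_iff.1 (show Commute x⁻¹ y⁻¹ from this)).eq

end Rep

/-- A solvable group with a fixed-point-free cyclic operator group of order dividing four has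
nilpotent derived group. -/
theorem nilLcs_four {A : Type v} [Group A] [Finite A] (s : A) (hgen : ∀ a, a ∈ Subgroup.zpowers s)
    (hs : s ^ 4 = 1) {G : Type u} [Group G] [Finite G] [Group.IsSolvable G] (φ : A →* MulAut G)
    (hfpf : Fpf φ) : NilLcs {1} G := by
  haveI := Fact.mk Nat.prime_two
  have hA : IsPGroup 2 A := fun a => ⟨2, by
    obtain ⟨k, rfl⟩ := hgen a
    change (s ^ k) ^ 4 = 1
    rw [← zpow_natCast, ← zpow_mul, mul_comm, zpow_mul, zpow_natCast, hs, one_zpow]⟩
  refine nilLcs_of_no_cfg hA {1} ⟨1, rfl⟩ ?_ (fun G' _ _ _ φ hfpf C => ?_) _ G φ hfpf rfl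
  · rintro _ rfl _ rfl; rfl
  have hinvG : ∀ x : G', φ (s ^ 2) x = x → φ s x = x⁻¹ := fun x => inverted_of_fixed_sq φ hgen hfpf
  have hcomG : ∀ x y : G', φ (s ^ 2) x = x → φ (s ^ 2) y = y → x * y = y * x := fun x y hx hy => by
    have h := hinvG (x * y) (by rw [map_mul, hx, hy])
    rw [map_mul, hinvG x hx, hinvG y hy, mul_inv_rev] at h
    exact (Commute.inv_inv_iff.1 (show Commute x⁻¹ y⁻¹ from h)).eq
  refine C.hnot 1 rfl (lcs_one_eq_bot fun x y => ?_)
  by_cases htwo : s ^ 2 = 1
  · exact Subtype.ext (hcomG x y (by rw [htwo, act_one]) (by rw [htwo, act_one]))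
  set R := C.rep (coprime_card hA (not_dvd_card φ hA hfpf)) hfpf with hR
  have F : R.IsFour s :=
    { gen := hgen
      four := hs
      two := htwo
      inverted := fun c hc => Subtype.ext (hinvG c (congrArg Subtype.val hc))
      centr := fun c v hc hv => C.ρ_of_commute
        (hcomG _ _ (congrArg Subtype.val hc) (congrArg C.val hv)) }
  haveI : Group.IsNilpotent ((⊤ : Subgroup C.H).lowerCentralSeries 1) := by
    obtain ⟨k, hk, h⟩ := C.hnil
    rw [Set.mem_singleton_iff] at hk
    rwa [hk] at h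
  have hndvd : ¬ C.ℓ ∣ Nat.card ((⊤ : Subgroup C.H).lowerCentralSeries 1) :=
    C.hcop _ inferInstance (inv_of_characteristic _ inferInstance) inferInstance
  haveI := Fact.mk C.hℓ
  refine F.commutative (fun K hKi hKne a ha b hb => ?_) x y
  obtain ⟨k, hk, hp⟩ := C.hsub K hKi hKne
  rw [Set.mem_singleton_iff] at hk
  subst hk
  have hmem : ⁅a, b⁆ ∈ K.lowerCentralSeries 1 := by
    rw [Subgroup.lowerCentralSeries_succ, Subgroup.lowerCentralSeries_zero]
    exact Subgroup.commutator_mem_commutator ha hb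
  obtain ⟨j, hj⟩ := IsPGroup.iff_orderOf.1 hp ⟨_, hmem⟩
  rw [Subgroup.orderOf_mk] at hj
  rw [← commutatorElement_eq_one_iff_mul_comm, ← orderOf_eq_one_iff]
  exact Nat.eq_one_of_dvd_coprimes ((C.hℓ.coprime_iff_not_dvd.2 hndvd).pow_left j)
    (hj ▸ dvd_rfl) (Subgroup.orderOf_dvd_natCard _ (Subgroup.lowerCentralSeries_mono 1 le_top hmem))

end Cfsg.Agent.OpFpf
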