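import Cfsg.Agent.Lib.FiniteGroup.OpFpf.Rep
import Cfsg.Agent.Lib.Solvable.Fitting
import Cfsg.Agent.Lib.PLocal.FixedPointFree

/-!
Reduction to a minimal configuration: if a solvable group with a fixed-point-free operator group of
prime power order has no nilpotent term among a prescribed part of its lower central series, there
is a complemented minimal stable normal subgroup with a faithful irreducible action.
-/

set_option autoImplicit false
set_option linter.style.haveILetI false

namespace Cfsg.Agent.OpFpf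

open scoped commutatorElement

universe u v

/-- Some term with index in `S` of the lower central series is nilpotent. -/
def NilLcs (S : Set ℕ) (G : Type*) [Group G] : Prop :=
  ∃ k ∈ S, Group.IsNilpotent ((⊤ : Subgroup G).lowerCentralSeries k)

/-- The configuration of a minimal counterexample. -/
structure Cfg {A : Type v} [Group A] {G : Type u} [Group G] (φ : A →* MulAut G) (S : Set ℕ) where
  ℓ : ℕ
  hℓ : ℓ.Prime
  V : Subgroup G
  H : Subgroup G
  hVn : V.Normal
  hVi : Inv φ V
  hVc : ∀ x ∈ V, ∀ y ∈ V, x * y = y * x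
  hVp : IsPGroup ℓ V
  hVne : V ≠ ⊥
  hHi : Inv φ H
  hHV : H ⊓ V = ⊥
  hfaith : H ⊓ Subgroup.centralizer (V : Set G) = ⊥
  hirr : ∀ U ≤ V, (∀ h ∈ H, ∀ x ∈ U, h * x * h⁻¹ ∈ U) → Inv φ U → U = ⊥ ∨ U = V
  hcop : ∀ N : Subgroup H, N.Normal → Inv (restrict φ H hHi) N → Group.IsNilpotent N →
    ¬ ℓ ∣ Nat.card N
  hnil : NilLcs S H
  hsub : ∀ K : Subgroup H, Inv (restrict φ H hHi) K → K ≠ ⊤ →
    ∃ k ∈ S, IsPGroup ℓ (K.lowerCentralSeries k)
  hnot : ∀ k ∈ S, (⊤ : Subgroup H).lowerCentralSeries k ≠ ⊥

theorem isNilpotent_of_injective {K M : Type*} [Group K] [Group M] [Group.IsNilpotent M] (f : K →* M)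
    (hf : Function.Injective f) : Group.IsNilpotent K :=
  Group.nilpotent_of_mulEquiv (MonoidHom.ofInjective hf).symm

theorem isNilpotent_of_le {G : Type*} [Group G] {K L : Subgroup G} [Group.IsNilpotent L]
    (h : K ≤ L) : Group.IsNilpotent K :=
  isNilpotent_of_injective (Subgroup.inclusion h) (Subgroup.inclusion_injective h)

theorem map_lcs_le {G M : Type*} [Group G] [Group M] (f : G →* M) (n : ℕ) :
    ((⊤ : Subgroup G).lowerCentralSeries n).map f ≤ (⊤ : Subgroup M).lowerCentralSeries n := by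
  rw [Subgroup.map_lowerCentralSeries]
  exact Subgroup.lowerCentralSeries_mono n le_top

/-- The map induced on terms of the lower central series. -/
def lcsMap {G M : Type*} [Group G] [Group M] (f : G →* M) (n : ℕ) :
    (⊤ : Subgroup G).lowerCentralSeries n →* (⊤ : Subgroup M).lowerCentralSeries n :=
  (f.comp ((⊤ : Subgroup G).lowerCentralSeries n).subtype).codRestrict _ fun x =>
    map_lcs_le f n ⟨x, x.2, rfl⟩

theorem isPGroup_of_forall {G : Type*} [Group G] [Finite G] {ℓ : ℕ} (hℓ : ℓ.Prime)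
    (h : ∀ e : G, (orderOf e).Coprime ℓ → e = 1) : IsPGroup ℓ G := by
  intro x
  obtain ⟨a, m, hm, ho⟩ := Nat.exists_eq_pow_mul_and_not_dvd (orderOf_pos x).ne' ℓ hℓ.ne_one
  refine ⟨a, h _ ?_⟩
  rw [orderOf_pow' x (pow_ne_zero _ hℓ.ne_zero), ho, Nat.gcd_mul_right_left,
    Nat.mul_div_cancel_left _ (pow_pos hℓ.pos a)]
  exact (hℓ.coprime_iff_not_dvd.2 hm).symm

section Minimal

variable {A : Type v} [Group A] {G : Type u} [Group G] (φ : A →* MulAut G)

theorem exists_minimal [Finite G] {N : Subgroup G} (hN : N.Normal) (hNi : Inv φ N) (hne : N ≠ ⊥) :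
    ∃ V, V ≤ N ∧ V.Normal ∧ Inv φ V ∧ V ≠ ⊥ ∧
      ∀ M : Subgroup G, M.Normal → Inv φ M → M ≤ V → M = ⊥ ∨ M = V := by
  obtain ⟨V, ⟨h1, h2, h3, h4⟩, hmin⟩ := Set.Finite.exists_minimal
    (s := {V : Subgroup G | V ≤ N ∧ V.Normal ∧ Inv φ V ∧ V ≠ ⊥}) (Set.toFinite _)
    ⟨N, le_rfl, hN, hNi, hne⟩
  refine ⟨V, h1, h2, h3, h4, fun M hMn hMi hMV => ?_⟩
  by_cases hM : M = ⊥
  · exact Or.inl hM
  · exact Or.inr (le_antisymm hMV (hmin ⟨hMV.trans h1, hMn, hMi, hM⟩ hMV))

theorem comm_of_minimal [Group.IsSolvable G] {V : Subgroup G} (hn : V.Normal) (hi : Inv φ V)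
    (hne : V ≠ ⊥) (hmin : ∀ M : Subgroup G, M.Normal → Inv φ M → M ≤ V → M = ⊥ ∨ M = V) :
    ∀ a ∈ V, ∀ b ∈ V, a * b = b * a := by
  rcases hmin ⁅V, V⁆ inferInstance (inv_commutator φ hi hi) (Subgroup.commutator_le_left V V) with
    h | h
  · intro a ha b hb
    rw [← commutatorElement_eq_one_iff_mul_comm, ← Subgroup.mem_bot, ← h]
    exact Subgroup.commutator_mem_commutator ha hb
  · exfalso
    haveI : Nontrivial V := (Subgroup.nontrivial_iff_ne_bot V).2 hne
    refine (Group.IsSolvable.commutator_lt_top_of_nontrivial V).ne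
      (Subgroup.map_injective V.subtype_injective ?_)
    rw [commutator_def, Subgroup.map_commutator, ← MonoidHom.range_eq_map, Subgroup.range_subtype, h]

theorem isPGroup_of_minimal [Finite G] {V : Subgroup G} (hVn : V.Normal) (hVi : Inv φ V)
    (hVne : V ≠ ⊥) (hVc : ∀ a ∈ V, ∀ b ∈ V, a * b = b * a)
    (hmin : ∀ M : Subgroup G, M.Normal → Inv φ M → M ≤ V → M = ⊥ ∨ M = V) :
    ∃ p : ℕ, p.Prime ∧ IsPGroup p V ∧ p ∣ Nat.card V := by
  obtain ⟨p, hp, hpd⟩ := Nat.exists_prime_and_dvd (V.one_lt_card_iff_ne_bot.2 hVne).ne'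
  haveI := Fact.mk hp
  refine ⟨p, hp, ?_, hpd⟩
  let P : Subgroup G :=
    { carrier := {v | v ∈ V ∧ ∃ k : ℕ, v ^ p ^ k = 1}
      one_mem' := ⟨one_mem V, 0, one_pow _⟩
      mul_mem' := by
        rintro a b ⟨ha, i, hi⟩ ⟨hb, j, hj⟩
        refine ⟨mul_mem ha hb, i + j, ?_⟩
        rw [Commute.mul_pow (hVc a ha b hb), pow_add, pow_mul, hi, one_pow, one_mul, mul_comm,
          pow_mul, hj, one_pow]
      inv_mem' := by
        rintro a ⟨ha, i, hi⟩
        exact ⟨inv_mem ha, i, by rw [inv_pow, hi, inv_one]⟩ }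
  have hPn : P.Normal := ⟨fun v hv g => ⟨hVn.conj_mem v hv.1 g, hv.2.choose, by
    rw [conj_pow, hv.2.choose_spec, mul_one, mul_inv_cancel]⟩⟩
  have hPi : Inv φ P := fun a v hv =>
    ⟨hVi a v hv.1, hv.2.choose, by rw [← map_pow, hv.2.choose_spec, map_one]⟩
  have hPV : P = V := (hmin P hPn hPi fun v hv => hv.1).resolve_left fun h => by
    obtain ⟨v, hv⟩ := exists_prime_orderOf_dvd_card' (G := V) p hpd
    have : (v : G) ∈ P := ⟨v.2, 1, by
      rw [pow_one, ← hv, ← Subgroup.orderOf_coe]; exact pow_orderOf_eq_one _⟩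
    rw [h, Subgroup.mem_bot] at this
    rw [← Subgroup.orderOf_coe, this, orderOf_one] at hv
    exact hp.one_lt.ne hv
  intro v
  obtain ⟨k, hk⟩ := ((hPV.symm ▸ v.2 : (v : G) ∈ P)).2
  exact ⟨k, Subtype.ext (by rw [SubmonoidClass.coe_pow, hk, Subgroup.coe_one])⟩

end Minimal

/-- Reduction to the configuration, for operators of coprime order. -/
theorem nilLcs_of_no_cfg_coprime {A : Type v} [Group A] [Finite A]
    (S : Set ℕ) (hS : S.Nonempty) (hS' : ∀ i ∈ S, ∀ j ∈ S, max i j ∈ S)
    (key : ∀ (G : Type u) [Group G] [Finite G] [Group.IsSolvable G] (φ : A →* MulAut G),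
      Fpf φ → (Nat.card G).Coprime (Nat.card A) → Cfg φ S → False) :
    ∀ (n : ℕ) (G : Type u) [Group G] [Finite G] [Group.IsSolvable G] (φ : A →* MulAut G),
      Fpf φ → (Nat.card G).Coprime (Nat.card A) → Nat.card G = n → NilLcs S G := by
  intro n
  induction n using Nat.strong_induction_on with
  | _ n ih =>
    intro G _ _ _ φ hfpf hcopG hn
    classical
    obtain ⟨k₀, hk₀⟩ := hS
    rcases subsingleton_or_nontrivial G with hs | hs
    · exact ⟨k₀, hk₀, inferInstance⟩
    by_contra hnot
    -- induction on stable subgroups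
    have hIHsub : ∀ L : Subgroup G, Inv φ L → L ≠ ⊤ →
        ∃ k ∈ S, Group.IsNilpotent (L.lowerCentralSeries k) := by
      intro L hL hne
      obtain ⟨k, hk, hk'⟩ := ih _ (by
        rw [← hn]
        exact lt_of_le_of_ne (Subgroup.card_le_card_group L)
          fun h => hne (Subgroup.eq_top_of_card_eq L h)) L (restrict φ L hL)
        (restrict_fpf φ hfpf L hL)
        (hcopG.coprime_dvd_left (Subgroup.card_subgroup_dvd_card L)) rfl
      refine ⟨k, hk, ?_⟩
      rw [← Subgroup.top_subtype_lowerCentralSeries]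
      exact Group.nilpotent_of_mulEquiv
        (Subgroup.equivMapOfInjective _ _ L.subtype_injective)
    -- induction on quotients
    have hIHquot : ∀ (N : Subgroup G) [N.Normal], (∀ a ∈ N, ∀ b ∈ N, a * b = b * a) → Inv φ N →
        N ≠ ⊥ → NilLcs S (G ⧸ N) := by
      intro N _ hNc hNi hN
      haveI : Group.IsSolvable (G ⧸ N) :=
        Group.isSolvable_of_surjective (f := QuotientGroup.mk' N) (QuotientGroup.mk'_surjective N)
      refine ih _ ?_ (G ⧸ N) (quot φ N hNi) (quot_fpf φ hcopG hfpf N hNc hNi)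
        (hcopG.coprime_dvd_left (Subgroup.card_quotient_dvd_card N)) rfl
      rw [← hn, Subgroup.card_eq_card_quotient_mul_card_subgroup N]
      exact lt_mul_of_one_lt_right Nat.card_pos (N.one_lt_card_iff_ne_bot.mpr hN)
    obtain ⟨V, -, hVn, hVi, hVne, hVmin⟩ := exists_minimal φ (N := ⊤) inferInstance (inv_top φ)
      top_ne_bot
    haveI := hVn
    have hVc := comm_of_minimal φ hVn hVi hVne hVmin
    obtain ⟨k₁, hk₁, hVnil⟩ := hIHquot V hVc hVi hVne
    haveI := hVnil
    -- uniqueness
    have huniq : ∀ N : Subgroup G, N.Normal → Inv φ N → N ≠ ⊥ → V ≤ N := by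
      intro N hN hNi hNne
      rcases hVmin (N ⊓ V) inferInstance (inv_inf φ hNi hVi) inf_le_right with h | h
      swap
      · exact h ▸ inf_le_left
      exfalso
      obtain ⟨V₂, hV₂N, hV₂n, hV₂i, hV₂ne, hV₂min⟩ := exists_minimal φ hN hNi hNne
      haveI := hV₂n
      obtain ⟨k₂, hk₂, hV₂nil⟩ :=
        hIHquot V₂ (comm_of_minimal φ hV₂n hV₂i hV₂ne hV₂min) hV₂i hV₂ne
      haveI : Group.IsNilpotent ((⊤ : Subgroup (G ⧸ V)).lowerCentralSeries (max k₁ k₂)) :=
        isNilpotent_of_le (Subgroup.lowerCentralSeries_antitone _ (le_max_left k₁ k₂))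
      haveI : Group.IsNilpotent ((⊤ : Subgroup (G ⧸ V₂)).lowerCentralSeries (max k₁ k₂)) :=
        isNilpotent_of_le (Subgroup.lowerCentralSeries_antitone _ (le_max_right k₁ k₂))
      refine hnot ⟨_, hS' _ hk₁ _ hk₂, isNilpotent_of_injective
        ((lcsMap (QuotientGroup.mk' V) (max k₁ k₂)).prod
          (lcsMap (QuotientGroup.mk' V₂) (max k₁ k₂))) ?_⟩
      rw [injective_iff_map_eq_one]
      intro x hx
      have e1 : QuotientGroup.mk' V (x : G) = 1 := congrArg Subtype.val (congrArg Prod.fst hx)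
      have e2 : QuotientGroup.mk' V₂ (x : G) = 1 := congrArg Subtype.val (congrArg Prod.snd hx)
      rw [QuotientGroup.mk'_apply, QuotientGroup.eq_one_iff] at e1 e2
      have : (x : G) ∈ N ⊓ V := ⟨hV₂N e2, e1⟩
      rw [h, Subgroup.mem_bot] at this
      exact Subtype.ext this
    obtain ⟨p, hp, hVp, hpd⟩ := isPGroup_of_minimal φ hVn hVi hVne hVc hVmin
    haveI := Fact.mk hp
    set π := QuotientGroup.mk' V with hπ
    have hπs : Function.Surjective π := QuotientGroup.mk'_surjective V
    set Db := (⊤ : Subgroup (G ⧸ V)).lowerCentralSeries k₁ with hDb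
    obtain ⟨q, hq, hqp, hqd⟩ : ∃ q : ℕ, q.Prime ∧ q ≠ p ∧ q ∣ Nat.card Db := by
      by_contra hcon
      push Not at hcon
      have hDp : IsPGroup p Db := IsPGroup.of_card
        (Nat.eq_prime_pow_of_unique_prime_dvd Nat.card_pos.ne' fun {d} hd hdd =>
          by_contra fun hne => hcon d hd hne hdd)
      have hle : (⊤ : Subgroup G).lowerCentralSeries k₁ ≤ Db.comap π :=
        Subgroup.map_le_iff_le_comap.1 (map_lcs_le π k₁)
      haveI := (hDp.comap_of_ker_isPGroup π (by rw [hπ, QuotientGroup.ker_mk']; exact hVp)).isNilpotent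
      exact hnot ⟨k₁, hk₁, isNilpotent_of_le hle⟩
    haveI := Fact.mk hq
    set ψ := quot φ V hVi with hψ
    have hDbi : Inv ψ Db := inv_of_characteristic ψ inferInstance
    obtain ⟨Qs⟩ : Nonempty (Sylow q Db) := inferInstance
    haveI hQchar : (Qs : Subgroup Db).Characteristic := Qs.characteristic_of_normal inferInstance
    set Qb := (Qs : Subgroup Db).map Db.subtype with hQb
    have hQbn : Qb.Normal :=
      Cfsg.Agent.FittingCores.normal_map_of_characteristic (N := Db) inferInstance hQchar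
    have hQbi : Inv ψ Qb :=
      inv_map_subtype ψ hDbi (inv_of_characteristic (restrict ψ Db hDbi) hQchar)
    have hQbp : IsPGroup q Qb := Qs.isPGroup'.map _
    have hQbne : Qb ≠ ⊥ := by
      rw [hQb, Ne, Subgroup.map_eq_bot_iff_of_injective _ Db.subtype_injective]
      exact Qs.ne_bot_of_dvd_card hqd
    set T := Qb.comap π with hT
    haveI hTn : T.Normal := hQbn.comap π
    have hTi : Inv φ T := inv_comap_quot φ V hVi hQbi
    have hVT : V ≤ T := fun v hv => by
      rw [hT, Subgroup.mem_comap, hπ, QuotientGroup.mk'_apply, (QuotientGroup.eq_one_iff v).2 hv]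
      exact one_mem _
    obtain ⟨R₀, hR₀⟩ := exists_inv_sylow_coprime (restrict φ T hTi)
      (hcopG.coprime_dvd_left (Subgroup.card_subgroup_dvd_card T)) q
    set R := (R₀ : Subgroup T).map T.subtype with hR
    have hRi : Inv φ R := inv_map_subtype φ hTi hR₀
    have hRp : IsPGroup q R := R₀.isPGroup'.map _
    have hVR : Disjoint V R := IsPGroup.disjoint_of_ne p q hqp.symm V R hVp hRp
    have hTsup : T ≤ V ⊔ R := by
      have h := Cfsg.Agent.FittingCores.eq_top_of_forall_sylow_le (G := T)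
        (X := (V ⊔ R).subgroupOf T) (fun r hr => by
          by_cases hrq : r = q
          · subst hrq
            exact ⟨R₀, fun y hy => Subgroup.mem_sup_right ⟨y, hy, rfl⟩⟩
          · haveI := Fact.mk hr
            refine ⟨default, fun y hy => Subgroup.mem_sup_left ?_⟩
            obtain ⟨i, hi⟩ := IsPGroup.iff_orderOf.1 (default : Sylow r T).isPGroup' ⟨y, hy⟩
            rw [Subgroup.orderOf_mk, ← Subgroup.orderOf_coe] at hi
            have hyQ : π (y : G) ∈ Qb := y.2
            obtain ⟨j, hj⟩ := IsPGroup.iff_orderOf.1 hQbp ⟨π (y : G), hyQ⟩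
            replace hj : orderOf (π (y : G)) = q ^ j := (Subgroup.orderOf_coe _).trans hj
            have h1 : orderOf (π (y : G)) ∣ r ^ i := hi ▸ orderOf_map_dvd π _
            have h2 : orderOf (π (y : G)) = 1 := Nat.eq_one_of_dvd_coprimes
              (((Nat.coprime_primes hr hq).2 hrq).pow i j) h1 (hj ▸ dvd_rfl)
            rw [orderOf_eq_one_iff, hπ, QuotientGroup.mk'_apply, QuotientGroup.eq_one_iff] at h2
            exact h2)
      exact Subgroup.subgroupOf_eq_top.1 h
    -- `V` meets the centralizer of `T` trivially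
    have hCT : V ⊓ Subgroup.centralizer (T : Set G) = ⊥ := by
      rcases hVmin (V ⊓ Subgroup.centralizer (T : Set G)) inferInstance
        (inv_inf φ hVi (inv_centralizer φ hTi)) inf_le_left with h | h
      · exact h
      exfalso
      have hVcT : V ≤ Subgroup.centralizer (T : Set G) := h ▸ inf_le_right
      have hR₀n : (R₀ : Subgroup T).Normal := by
        rw [← Subgroup.normalizer_eq_top_iff, eq_top_iff]
        intro t _
        obtain ⟨v, hv, r, hr, ht⟩ :=
          (Cfsg.Agent.SolvBasic.mem_sup_iff_of_le_normalizer (H := R) (N := V)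
            Subgroup.le_normalizer_of_normal).1 (hTsup t.2)
        obtain ⟨r', hr', rfl⟩ := hr
        have e : t = (⟨v, hVT hv⟩ : T) * r' := Subtype.ext ht
        rw [e]
        refine mul_mem (Subgroup.center_le_normalizer _ ?_) (Subgroup.le_normalizer hr')
        exact Subgroup.mem_center_iff.2 fun s =>
          Subtype.ext (Subgroup.mem_centralizer_iff.1 (hVcT hv) _ s.2)
      haveI hR₀c := R₀.characteristic_of_normal hR₀n
      have hRn : R.Normal := Cfsg.Agent.FittingCores.normal_map_of_characteristic (N := T) hTn hR₀c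
      have hRne : R ≠ ⊥ := fun h0 => hQbne (by
        rw [← Subgroup.map_comap_eq_self_of_surjective hπs Qb, ← hT, eq_bot_iff,
          Subgroup.map_le_iff_le_comap, MonoidHom.comap_bot, hπ, QuotientGroup.ker_mk']
        rw [h0, sup_bot_eq] at hTsup
        exact hTsup)
      exact hVne (hVR.eq_bot_of_le (huniq R hRn hRi hRne))
    -- the complement
    set H := Subgroup.normalizer (R : Set G) with hH
    have hHi : Inv φ H := inv_normalizer φ hRi
    have hHV : H ⊓ V = ⊥ := by
      rw [eq_bot_iff]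
      rintro v ⟨hvn, hv⟩
      have hcR : ∀ r ∈ R, r * v = v * r := by
        intro r hr
        have h1 : v * r * v⁻¹ * r⁻¹ ∈ R :=
          mul_mem ((Subgroup.mem_normalizer_iff.1 hvn r).1 hr) (inv_mem hr)
        have h2 : v * r * v⁻¹ * r⁻¹ ∈ V := by
          rw [show v * r * v⁻¹ * r⁻¹ = v * (r * v⁻¹ * r⁻¹) by group]
          exact mul_mem hv (hVn.conj_mem _ (inv_mem hv) r)
        have h3 : v * r * v⁻¹ * r⁻¹ = 1 :=
          Subgroup.mem_bot.1 (hVR.le_bot ⟨h2, h1⟩)
        calc r * v = (v * r * v⁻¹ * r⁻¹) * (r * v) := by rw [h3, one_mul]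
          _ = v * r := by group
      rw [← hCT]
      exact ⟨hv, Subgroup.mem_centralizer_iff.2 fun t ht => by
          obtain ⟨w, hw, r, hr, rfl⟩ := (Cfsg.Agent.SolvBasic.mem_sup_iff_of_le_normalizer (H := R)
            (N := V) Subgroup.le_normalizer_of_normal).1 (hTsup ht)
          rw [mul_assoc, hcR r hr, ← mul_assoc, hVc w hw v hv, mul_assoc]⟩
    have hHtop : ∀ g, ∃ h ∈ H, ∃ v ∈ V, g = h * v := by
      intro g
      have hF := Sylow.normalizer_sup_eq_top (N := T) R₀
      have hle : H ⊔ T ≤ V ⊔ H :=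
        sup_le le_sup_right (hTsup.trans (sup_le_sup_left Subgroup.le_normalizer _))
      obtain ⟨v, hv, k, hk, rfl⟩ := (Cfsg.Agent.SolvBasic.mem_sup_iff_of_le_normalizer
        (H := H) (N := V) Subgroup.le_normalizer_of_normal).1 (hle (hF.ge (trivial : g ∈ ⊤)))
      exact ⟨k, hk, k⁻¹ * v * k, by simpa using hVn.conj_mem v hv k⁻¹, by group⟩
    have hnormal_of : ∀ U : Subgroup G, U ≤ V → (∀ h ∈ H, ∀ x ∈ U, h * x * h⁻¹ ∈ U) →
        U.Normal := fun U hUV hUH => ⟨fun x hx g => by
      obtain ⟨h, hh, v, hv, rfl⟩ := hHtop g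
      rw [show h * v * x * (h * v)⁻¹ = h * (v * x * v⁻¹) * h⁻¹ by group, hVc v hv x (hUV hx),
        mul_inv_cancel_right]
      exact hUH h hh x hx⟩
    have hirr : ∀ U ≤ V, (∀ h ∈ H, ∀ x ∈ U, h * x * h⁻¹ ∈ U) → Inv φ U → U = ⊥ ∨ U = V :=
      fun U hUV hUH hUi => hVmin U (hnormal_of U hUV hUH) hUi hUV
    have hfaith : H ⊓ Subgroup.centralizer (V : Set G) = ⊥ := by
      by_contra hne
      have hn' : (H ⊓ Subgroup.centralizer (V : Set G)).Normal := ⟨fun x hx g => by
        obtain ⟨h, hh, v, hv, rfl⟩ := hHtop g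
        have e : v * x * v⁻¹ = x := by
          rw [Subgroup.mem_centralizer_iff.1 hx.2 v hv, mul_inv_cancel_right]
        rw [show h * v * x * (h * v)⁻¹ = h * (v * x * v⁻¹) * h⁻¹ by group, e]
        exact ⟨H.mul_mem (H.mul_mem hh hx.1) (H.inv_mem hh),
          ((inferInstance : (Subgroup.centralizer (V : Set G)).Normal)).conj_mem x hx.2 h⟩⟩
      have hle := huniq _ hn' (inv_inf φ hHi (inv_centralizer φ hVi)) hne
      exact hVne (le_bot_iff.1 (hHV ▸ le_inf (hle.trans inf_le_left) le_rfl))
    have hcop : ∀ N : Subgroup H, N.Normal → Inv (restrict φ H hHi) N → Group.IsNilpotent N →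
        ¬ p ∣ Nat.card N := by
      intro N hNn hNi hNnil hdvd
      obtain ⟨P⟩ : Nonempty (Sylow p N) := inferInstance
      haveI hPc := P.characteristic_of_normal inferInstance
      set P₁ := (P : Subgroup N).map N.subtype with hP₁
      have hP₁n : P₁.Normal := Cfsg.Agent.FittingCores.normal_map_of_characteristic hNn hPc
      have hP₁i : Inv (restrict φ H hHi) P₁ := inv_map_subtype _ hNi (inv_of_characteristic _ hPc)
      have hP₁p : IsPGroup p P₁ := P.isPGroup'.map _
      refine P.ne_bot_of_dvd_card hdvd ((Subgroup.map_eq_bot_iff_of_injective _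
        N.subtype_injective).1 ?_)
      change P₁ = ⊥
      set P' := P₁.map H.subtype with hP'
      set U := V ⊓ Subgroup.centralizer (P' : Set G) with hU
      have hP'H : ∀ h ∈ H, ∀ y ∈ P', h⁻¹ * y * h ∈ P' := by
        rintro h hh _ ⟨y, hy, rfl⟩
        exact ⟨_, hP₁n.conj_mem y hy ⟨h, hh⟩⁻¹, by simp⟩
      have hUH : ∀ h ∈ H, ∀ x ∈ U, h * x * h⁻¹ ∈ U := fun h hh x hx =>
        ⟨hVn.conj_mem x hx.1 h, Subgroup.mem_centralizer_iff.2 fun y hy => by
          have := Subgroup.mem_centralizer_iff.1 hx.2 _ (hP'H h hh y hy)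
          calc y * (h * x * h⁻¹) = h * ((h⁻¹ * y * h) * x) * h⁻¹ := by group
            _ = h * (x * (h⁻¹ * y * h)) * h⁻¹ := by rw [this]
            _ = h * x * h⁻¹ * y := by group⟩
      have hUne : U ≠ ⊥ := by
        letI act : MulAction P₁ V :=
          MulAction.compHom V (((MulAut.conjNormal (H := V)).comp H.subtype).comp P₁.subtype)
        obtain ⟨v, hv, hv1⟩ := hP₁p.exists_fixed_point_of_prime_dvd_card_of_fixed_point V hpd (a := 1)
          (fun g => map_one (MulAut.conjNormal (H := V) ((g : H) : G)))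
        intro h0
        refine hv1 (Subtype.ext ?_)
        symm
        rw [Subgroup.coe_one, ← Subgroup.mem_bot, ← h0]
        refine ⟨v.2, Subgroup.mem_centralizer_iff.2 ?_⟩
        rintro _ ⟨y, hy, rfl⟩
        have := congrArg Subtype.val (hv ⟨y, hy⟩)
        exact mul_inv_eq_iff_eq_mul.1 this
      have hUV : U = V := (hirr U inf_le_left hUH
        (inv_inf φ hVi (inv_centralizer φ (inv_map_subtype φ hHi hP₁i)))).resolve_left hUne
      rw [← Subgroup.map_eq_bot_iff_of_injective P₁ H.subtype_injective, eq_bot_iff, ← hfaith]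
      exact le_inf (Subgroup.map_subtype_le P₁) fun y hy => Subgroup.mem_centralizer_iff.2 fun v hv =>
        (Subgroup.mem_centralizer_iff.1 (hUV.symm ▸ hv : v ∈ U).2 y hy).symm
    have hHmap : Function.Injective (π.comp H.subtype) := by
      rw [injective_iff_map_eq_one]
      intro h hh
      have hm : (h : G) ∈ H ⊓ V := ⟨h.2, by
        rwa [MonoidHom.comp_apply, Subgroup.coe_subtype, hπ, QuotientGroup.mk'_apply,
          QuotientGroup.eq_one_iff] at hh⟩
      rw [hHV, Subgroup.mem_bot] at hm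
      exact Subtype.ext hm
    have hHsurj : Function.Surjective (π.comp H.subtype) := by
      intro x
      obtain ⟨g, rfl⟩ := hπs x
      obtain ⟨h, hh, v, hv, rfl⟩ := hHtop g
      refine ⟨⟨h, hh⟩, ?_⟩
      rw [map_mul, hπ, QuotientGroup.mk'_apply _ v, (QuotientGroup.eq_one_iff v).2 hv, mul_one]
      rfl
    refine key G φ hfpf hcopG
      { ℓ := p, hℓ := hp, V := V, H := H, hVn := hVn, hVi := hVi, hVc := hVc, hVp := hVp,
        hVne := hVne, hHi := hHi, hHV := hHV, hfaith := hfaith, hirr := hirr, hcop := hcop,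
        hnil := ⟨k₁, hk₁, isNilpotent_of_injective (lcsMap (π.comp H.subtype) k₁)
          fun a b h => Subtype.ext (hHmap (congrArg Subtype.val h))⟩
        hsub := ?_, hnot := ?_ }
    · intro K hKi hKne
      set L := K.map H.subtype ⊔ V with hL
      have hLi : Inv φ L := inv_sup φ (inv_map_subtype φ hHi hKi) hVi
      have hLne : L ≠ ⊤ := by
        intro htop
        refine hKne (eq_top_iff.2 fun h _ => ?_)
        obtain ⟨v, hv, z, hz, hze⟩ := (Cfsg.Agent.SolvBasic.mem_sup_iff_of_le_normalizer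
          (H := K.map H.subtype) (N := V) Subgroup.le_normalizer_of_normal).1
          (show (h : G) ∈ V ⊔ K.map H.subtype by rw [sup_comm, ← hL, htop]; trivial)
        obtain ⟨z', hz', rfl⟩ := hz
        have : v ∈ H ⊓ V := ⟨by
          rw [show v = (h : G) * (H.subtype z')⁻¹ by rw [hze, mul_inv_cancel_right]]
          exact H.mul_mem h.2 (H.inv_mem z'.2), hv⟩
        rw [hHV, Subgroup.mem_bot] at this
        rw [this, one_mul] at hze
        rwa [Subtype.ext hze]
      obtain ⟨k, hk, hLnil⟩ := hIHsub L hLi hLne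
      haveI := hLnil
      refine ⟨k, hk, isPGroup_of_forall hp fun e he => ?_⟩
      have heN : ((e : H) : G) ∈ L.lowerCentralSeries k := by
        have : ((e : H) : G) ∈ (K.lowerCentralSeries k).map H.subtype := ⟨_, e.2, rfl⟩
        rw [Subgroup.map_lowerCentralSeries] at this
        exact Subgroup.lowerCentralSeries_mono k le_sup_left this
      have hec : ((e : H) : G) ∈ H ⊓ Subgroup.centralizer (V : Set G) := by
        refine ⟨(e : H).2, Subgroup.mem_centralizer_iff.2 fun v hv => ?_⟩
        set x : G := ((e : H) : G) with hx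
        have hvL : v ∈ L := Subgroup.mem_sup_right hv
        set w := x * v * x⁻¹ * v⁻¹ with hw
        have hwV : w ∈ V := mul_mem (hVn.conj_mem _ hv _) (inv_mem hv)
        have hwN : w ∈ L.lowerCentralSeries k := by
          have h1 := (Subgroup.mem_normalizer_iff.1
            (L.self_le_normalizer_lowerCentralSeries k hvL) x⁻¹).1 (inv_mem heN)
          rw [hw, show x * v * x⁻¹ * v⁻¹ = x * (v * x⁻¹ * v⁻¹) by group]
          exact mul_mem heN h1
        obtain ⟨j, hj⟩ := IsPGroup.iff_orderOf.1 hVp ⟨w, hwV⟩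
        rw [Subgroup.orderOf_mk] at hj
        have hec' : (orderOf x).Coprime p := by
          rwa [hx, Subgroup.orderOf_coe, Subgroup.orderOf_coe]
        have hc' := Cfsg.Agent.FixedPointFreeThompson.commute_of_nilpotent (p := p)
          (x := (⟨w, hwN⟩ : L.lowerCentralSeries k)) (g := ⟨x, heN⟩) (k := j)
          (by rw [Subgroup.orderOf_mk]; exact hj) (by rw [Subgroup.orderOf_mk]; exact hec')
        have hce : x * w = w * x := congrArg Subtype.val hc'
        have hiter : ∀ i : ℕ, x ^ i * v * (x ^ i)⁻¹ = w ^ i * v := by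
          intro i
          induction i with
          | zero => simp
          | succ i ihi =>
            rw [pow_succ' x, show x * x ^ i * v * (x * x ^ i)⁻¹ =
              x * (x ^ i * v * (x ^ i)⁻¹) * x⁻¹ by group, ihi,
              ← mul_assoc, (Commute.pow_right hce i).eq, pow_succ w, hw]
            group
        have hord := hiter (orderOf x)
        rw [pow_orderOf_eq_one, one_mul, inv_one, mul_one, eq_comm, mul_eq_right] at hord
        have hw1 : w = 1 := orderOf_eq_one_iff.1 (Nat.eq_one_of_dvd_coprimes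
          (hec'.pow_right j) (orderOf_dvd_of_pow_eq_one hord) (hj ▸ dvd_rfl))
        rw [hw, mul_inv_eq_one, mul_inv_eq_iff_eq_mul] at hw1
        exact hw1.symm
      rw [hfaith, Subgroup.mem_bot] at hec
      exact Subtype.ext (Subtype.ext hec)
    · intro k hk h0
      have h1 : (⊤ : Subgroup (G ⧸ V)).lowerCentralSeries k = ⊥ := by
        rw [← Subgroup.map_top_of_surjective _ hHsurj, ← Subgroup.map_lowerCentralSeries, h0,
          Subgroup.map_bot]
      have h2 : (⊤ : Subgroup G).lowerCentralSeries k ≤ V := by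
        have h3 := map_lcs_le π k
        rw [h1, Subgroup.map_le_iff_le_comap, MonoidHom.comap_bot, hπ, QuotientGroup.ker_mk'] at h3
        exact h3
      haveI := hVp.isNilpotent
      exact hnot ⟨k, hk, isNilpotent_of_le h2⟩

/-- Reduction to the configuration, for operator groups of prime power order. -/
theorem nilLcs_of_no_cfg {A : Type v} [Group A] [Finite A] {π₀ : ℕ} [Fact π₀.Prime]
    (hA : IsPGroup π₀ A) (S : Set ℕ) (hS : S.Nonempty) (hS' : ∀ i ∈ S, ∀ j ∈ S, max i j ∈ S)
    (key : ∀ (G : Type u) [Group G] [Finite G] [Group.IsSolvable G] (φ : A →* MulAut G),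
      Fpf φ → Cfg φ S → False) :
    ∀ (n : ℕ) (G : Type u) [Group G] [Finite G] [Group.IsSolvable G] (φ : A →* MulAut G),
      Fpf φ → Nat.card G = n → NilLcs S G := fun n G _ _ _ φ hfpf hn =>
  nilLcs_of_no_cfg_coprime S hS hS' (fun G' _ _ _ φ' h' _ C => key G' φ' h' C) n G φ hfpf
    (coprime_card hA (not_dvd_card φ hA hfpf)) hn

namespace Cfg

variable {A : Type v} [Group A] {G : Type u} [Group G] {φ : A →* MulAut G} {S : Set ℕ}
  (C : Cfg φ S)

/-- The action on the complement. -/
abbrev ψ : A →* MulAut C.H := restrict φ C.H C.hHi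

/-- The underlying module. -/
abbrev W : Type u := Additive C.V

/-- The normal subgroup as a commutative group. -/
@[instance_reducible] def commGroupV : CommGroup C.V :=
  { (inferInstance : Group C.V) with mul_comm := fun a b => Subtype.ext (C.hVc _ a.2 _ b.2) }

instance : AddCommGroup C.W :=
  letI := C.commGroupV
  inferInstanceAs (AddCommGroup (Additive C.V))

/-- The representation on the normal subgroup. -/
def ρ : C.H →* AddMonoid.End C.W :=
  haveI := C.hVn
  { toFun := fun h => MonoidHom.toAdditive (MulAut.conjNormal (H := C.V) (h : G)).toMonoidHom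
    map_one' := by
      refine AddMonoidHom.ext fun v => ?_
      change Additive.ofMul ((MulAut.conjNormal (H := C.V) ((1 : C.H) : G)) (Additive.toMul v)) = v
      rw [Subgroup.coe_one, map_one]
      rfl
    map_mul' := fun g h => by
      refine AddMonoidHom.ext fun v => ?_
      change Additive.ofMul
        ((MulAut.conjNormal (H := C.V) ((g * h : C.H) : G)) (Additive.toMul v)) = _
      rw [Subgroup.coe_mul, map_mul]
      rfl }

/-- The operators on the normal subgroup. -/
def σ : A →* AddMonoid.End C.W where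
  toFun a := MonoidHom.toAdditive (restrict φ C.V C.hVi a).toMonoidHom
  map_one' := by
    refine AddMonoidHom.ext fun v => ?_
    change Additive.ofMul (restrict φ C.V C.hVi 1 (Additive.toMul v)) = v
    rw [map_one]
    rfl
  map_mul' a b := by
    refine AddMonoidHom.ext fun v => ?_
    change Additive.ofMul (restrict φ C.V C.hVi (a * b) (Additive.toMul v)) = _
    rw [map_mul]
    rfl

/-- A vector as a group element. -/
def val (v : C.W) : G := ((Additive.toMul v : C.V) : G)

theorem val_inj {v w : C.W} (h : C.val v = C.val w) : v = w :=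
  congrArg Additive.ofMul (Subtype.ext h : Additive.toMul v = Additive.toMul w)

theorem val_ρ (h : C.H) (v : C.W) : C.val (C.ρ h v) = h * C.val v * (h : G)⁻¹ := rfl

theorem val_σ (a : A) (v : C.W) : C.val (C.σ a v) = φ a (C.val v) := rfl

/-- An element commuting with a vector fixes it. -/
theorem ρ_of_commute {h : C.H} {v : C.W} (hc : (h : G) * C.val v = C.val v * h) : C.ρ h v = v :=
  C.val_inj (by rw [val_ρ, hc, mul_inv_cancel_right])

include C in
theorem coprime_of_not_dvd [Finite G] {n : ℕ} (hn : ¬ C.ℓ ∣ n) : n.Coprime (Nat.card C.W) := by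
  haveI := Fact.mk C.hℓ
  obtain ⟨k, hk⟩ := IsPGroup.iff_card.1 C.hVp
  rw [Nat.card_congr Additive.toMul, hk]
  exact ((C.hℓ.coprime_iff_not_dvd.2 hn).symm).pow_right k

instance [Finite G] : Finite C.W := inferInstanceAs (Finite (Additive C.V))

instance : Nontrivial C.W :=
  haveI : Nontrivial C.V := (Subgroup.nontrivial_iff_ne_bot _).2 C.hVne
  inferInstanceAs (Nontrivial (Additive C.V))

/-- The module of the configuration. -/
def rep [Finite A] [Finite G] (hcopG : (Nat.card G).Coprime (Nat.card A)) (hfpf : Fpf φ) :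
    Rep C.ψ C.W where
  ρ := C.ρ
  σ := C.σ
  hσ a h v := C.val_inj (by
    rw [val_σ, val_ρ, val_ρ, val_σ, map_mul, map_mul, map_inv (φ a)]
    rfl)
  fpf v hv := C.val_inj (hfpf _ fun a => by rw [← val_σ, hv a])
  finA := inferInstance
  finH := inferInstance
  finW := inferInstance
  copA := by
    rw [Nat.card_congr Additive.toMul]
    exact (hcopG.coprime_dvd_left (Subgroup.card_subgroup_dvd_card C.V)).symm
  copAH := hcopG.coprime_dvd_left (Subgroup.card_subgroup_dvd_card C.H)
  faithful h hh := Subtype.ext (by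
    have : (h : G) ∈ C.H ⊓ Subgroup.centralizer (C.V : Set G) :=
      ⟨h.2, Subgroup.mem_centralizer_iff.2 fun v hv => by
        have e := congrArg C.val (hh (Additive.ofMul ⟨v, hv⟩))
        rw [val_ρ] at e
        exact (mul_inv_eq_iff_eq_mul.1 e).symm⟩
    rw [C.hfaith, Subgroup.mem_bot] at this
    exact this)
  irred U hUρ hUσ := by
    let U' : Subgroup G := (AddSubgroup.toSubgroup' U).map C.V.subtype
    have hmem : ∀ x : C.V, (x : G) ∈ U' ↔ Additive.ofMul x ∈ U := fun x =>
      ⟨fun ⟨y, hy, e⟩ => Subtype.ext e ▸ hy, fun h => ⟨x, h, rfl⟩⟩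
    have hU'V : U' ≤ C.V := Subgroup.map_subtype_le _
    rcases C.hirr U' hU'V
      (fun h hh x hx => (hmem ⟨_, C.hVn.conj_mem x (hU'V hx) h⟩).2
        (hUρ ⟨h, hh⟩ _ ((hmem ⟨x, hU'V hx⟩).1 hx)))
      (fun a x hx => (hmem ⟨_, C.hVi a x (hU'V hx)⟩).2 (hUσ a _ ((hmem ⟨x, hU'V hx⟩).1 hx))) with
      h | h
    · left
      refine (AddSubgroup.eq_bot_iff_forall _).2 fun w hw => ?_
      have := (hmem (Additive.toMul w)).2 hw
      rw [h, Subgroup.mem_bot] at this
      exact congrArg Additive.ofMul (Subtype.ext this : Additive.toMul w = 1)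
    · right
      rw [eq_top_iff]
      intro w _
      have hw : ((Additive.toMul w : C.V) : G) ∈ U' := by rw [h]; exact (Additive.toMul w).2
      exact (hmem (Additive.toMul w)).1 hw
  cop N hNn hNi hNnil := C.coprime_of_not_dvd (C.hcop N hNn hNi hNnil)

@[simp] theorem rep_ρ [Finite A] [Finite G] (h₁ : (Nat.card G).Coprime (Nat.card A))
    (h₂ : Fpf φ) : (C.rep h₁ h₂).ρ = C.ρ := rfl

@[simp] theorem rep_σ [Finite A] [Finite G] (h₁ : (Nat.card G).Coprime (Nat.card A))
    (h₂ : Fpf φ) : (C.rep h₁ h₂).σ = C.σ := rfl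

end Cfg

end Cfsg.Agent.OpFpf
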