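import Cfsg.Agent.Lib.FiniteGroup.OpFpf.Basic
import Mathlib.GroupTheory.Nilpotent
import Mathlib.Algebra.Group.TypeTags.Finite

/-!
Modules for a group with operators acting without common fixed points: components of stable
abelian normal subgroups.
-/

set_option autoImplicit false
set_option linter.style.haveILetI false

namespace Cfsg.Agent.OpFpf

open scoped BigOperators

variable {A H : Type*} [Group A] [Group H] {W : Type*} [AddCommGroup W]

/-- A faithful irreducible module with compatible operators and no common fixed point. -/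
structure Rep (φ : A →* MulAut H) (W : Type*) [AddCommGroup W] where
  ρ : H →* AddMonoid.End W
  σ : A →* AddMonoid.End W
  hσ : ∀ a h v, σ a (ρ h v) = ρ (φ a h) (σ a v)
  fpf : ∀ v, (∀ a, σ a v = v) → v = 0
  finA : Finite A
  finH : Finite H
  finW : Finite W
  copA : (Nat.card A).Coprime (Nat.card W)
  copAH : (Nat.card H).Coprime (Nat.card A)
  faithful : ∀ h, (∀ v, ρ h v = v) → h = 1
  irred : ∀ U : AddSubgroup W, (∀ h, ∀ v ∈ U, ρ h v ∈ U) → (∀ a, ∀ v ∈ U, σ a v ∈ U) →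
    U = ⊥ ∨ U = ⊤
  cop : ∀ N : Subgroup H, N.Normal → Inv φ N → Group.IsNilpotent N →
    (Nat.card N).Coprime (Nat.card W)

/-- Image of a subgroup under an automorphism. -/
abbrev mp (τ : MulAut H) (B : Subgroup H) : Subgroup H := B.map τ.toMonoidHom

theorem mem_mp {τ : MulAut H} {B : Subgroup H} {x : H} : x ∈ mp τ B ↔ ∃ y ∈ B, τ y = x := Iff.rfl

theorem apply_mem_mp {τ : MulAut H} {B : Subgroup H} {x : H} (hx : x ∈ B) : τ x ∈ mp τ B :=
  ⟨x, hx, rfl⟩

theorem mem_of_mp_eq {τ : MulAut H} {B : Subgroup H} (h : mp τ B = B) {x : H} (hx : x ∈ B) :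
    τ x ∈ B := by
  conv => arg 1; rw [← h]
  exact apply_mem_mp hx

theorem mp_mp (τ τ' : MulAut H) (B : Subgroup H) : mp τ (mp τ' B) = mp (τ * τ') B := by
  simp only [mp, Subgroup.map_map]
  rfl

theorem mp_one (B : Subgroup H) : mp (1 : MulAut H) B = B := by
  ext x
  simp

theorem mp_comm (φ : A →* MulAut H) (a : A) (g : H) (B : Subgroup H) :
    mp (φ a) (mp (MulAut.conj g) B) = mp (MulAut.conj (φ a g)) (mp (φ a) B) := by
  simp only [mp, Subgroup.map_map]
  congr 1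
  ext x
  simp

theorem conj_mem_of_mp {g : H} {B : Subgroup H} (h : mp (MulAut.conj g) B = B) {x : H}
    (hx : x ∈ B) : g * x * g⁻¹ ∈ B := mem_of_mp_eq h hx

/-- The operators fixing a subgroup. -/
def opStab (φ : A →* MulAut H) (B : Subgroup H) : Subgroup A where
  carrier := {a | mp (φ a) B = B}
  one_mem' := by
    change mp (φ 1) B = B
    rw [map_one, mp_one]
  mul_mem' := fun {a b} ha hb => by
    simp only [Set.mem_ofPred_eq] at ha hb ⊢
    rw [map_mul, ← mp_mp, hb, ha]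
  inv_mem' := fun {a} ha => by
    simp only [Set.mem_ofPred_eq] at ha ⊢
    nth_rw 1 [← ha]
    rw [mp_mp, ← map_mul, inv_mul_cancel, map_one, mp_one]

theorem mem_opStab {φ : A →* MulAut H} {B : Subgroup H} {a : A} :
    a ∈ opStab φ B ↔ mp (φ a) B = B := Iff.rfl

/-- The elements fixing a subgroup under conjugation. -/
def conjStab (B : Subgroup H) : Subgroup H where
  carrier := {g | mp (MulAut.conj g) B = B}
  one_mem' := by
    change mp (MulAut.conj 1) B = B
    rw [map_one, mp_one]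
  mul_mem' := fun {a b} ha hb => by
    simp only [Set.mem_ofPred_eq] at ha hb ⊢
    rw [map_mul, ← mp_mp, hb, ha]
  inv_mem' := fun {a} ha => by
    simp only [Set.mem_ofPred_eq] at ha ⊢
    nth_rw 1 [← ha]
    rw [mp_mp, ← map_mul, inv_mul_cancel, map_one, mp_one]

theorem mem_conjStab {B : Subgroup H} {g : H} : g ∈ conjStab B ↔ mp (MulAut.conj g) B = B := Iff.rfl

namespace Rep

variable {φ : A →* MulAut H} (R : Rep φ W)

theorem ρmul (g h : H) (v : W) : R.ρ (g * h) v = R.ρ g (R.ρ h v) := by rw [map_mul]; rfl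

theorem ρone (v : W) : R.ρ 1 v = v := by rw [map_one]; rfl

theorem ρinv (h : H) (v : W) : R.ρ h⁻¹ (R.ρ h v) = v := by rw [← ρmul, inv_mul_cancel, ρone]

theorem ρinj (h : H) : Function.Injective (R.ρ h) := Function.LeftInverse.injective (R.ρinv h)

theorem σmul (a b : A) (v : W) : R.σ (a * b) v = R.σ a (R.σ b v) := by rw [map_mul]; rfl

theorem σone (v : W) : R.σ 1 v = v := by rw [map_one]; rfl

theorem σinv (a : A) (v : W) : R.σ a⁻¹ (R.σ a v) = v := by rw [← σmul, inv_mul_cancel, σone]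

theorem σinj (a : A) : Function.Injective (R.σ a) := Function.LeftInverse.injective (R.σinv a)

include R in
theorem eq_zero_of_nsmul {n : ℕ} (hn : n.Coprime (Nat.card W)) {v : W} (hv : n • v = 0) :
    v = 0 := by
  haveI := R.finW
  exact AddMonoid.addOrderOf_eq_one_iff.1 (Nat.eq_one_of_dvd_coprimes hn
    (addOrderOf_dvd_iff_nsmul_eq_zero.2 hv) (addOrderOf_dvd_natCard v))

/-- The elements fixing a vector. -/
def stab (v : W) : Subgroup H where
  carrier := {g | R.ρ g v = v}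
  one_mem' := R.ρone v
  mul_mem' := fun {g h} hg hh => by
    simp only [Set.mem_ofPred_eq] at hg hh ⊢
    rw [ρmul, hh, hg]
  inv_mem' := fun {g} hg => by
    simp only [Set.mem_ofPred_eq] at hg ⊢
    nth_rw 1 [← hg]
    rw [ρinv]

theorem mem_stab {v : W} {g : H} : g ∈ R.stab v ↔ R.ρ g v = v := Iff.rfl

/-- The fixed points of a subgroup. -/
def fix (B : Subgroup H) : AddSubgroup W where
  carrier := {v | B ≤ R.stab v}
  zero_mem' := fun g _ => by rw [mem_stab, map_zero]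
  add_mem' := fun {u v} hu hv g hg => by
    rw [mem_stab, map_add, R.mem_stab.1 (hu hg), R.mem_stab.1 (hv hg)]
  neg_mem' := fun {u} hu g hg => by rw [mem_stab, map_neg, R.mem_stab.1 (hu hg)]

theorem mem_fix {B : Subgroup H} {v : W} : v ∈ R.fix B ↔ ∀ b ∈ B, R.ρ b v = v := Iff.rfl

theorem fix_sup {B C : Subgroup H} {v : W} (hB : v ∈ R.fix B) (hC : v ∈ R.fix C) :
    v ∈ R.fix (B ⊔ C) :=
  (sup_le (a := B) (b := C) (c := R.stab v) hB hC : _)

theorem fix_sup_zpowers {B : Subgroup H} {v : W} {g : H} (hB : v ∈ R.fix B) (hg : R.ρ g v = v) :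
    v ∈ R.fix (B ⊔ Subgroup.zpowers g) :=
  R.fix_sup hB (Subgroup.zpowers_le.2 (R.mem_stab.2 hg) : Subgroup.zpowers g ≤ R.stab v)

/-- Vectors fixed by an operator. -/
def opFix (a : A) : AddSubgroup W where
  carrier := {v | R.σ a v = v}
  zero_mem' := map_zero _
  add_mem' := fun {u v} hu hv => by
    simp only [Set.mem_ofPred_eq] at hu hv ⊢
    rw [map_add, hu, hv]
  neg_mem' := fun {u} hu => by
    simp only [Set.mem_ofPred_eq] at hu ⊢
    rw [map_neg, hu]

theorem mem_opFix {a : A} {v : W} : v ∈ R.opFix a ↔ R.σ a v = v := Iff.rfl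

theorem σ_fix_of_mem_zpowers {a b : A} (hb : b ∈ Subgroup.zpowers a) {v : W} (hv : R.σ a v = v) :
    R.σ b v = v := by
  let S : Subgroup A :=
    { carrier := {b | R.σ b v = v}
      one_mem' := R.σone v
      mul_mem' := fun {b b'} h h' => by
        simp only [Set.mem_ofPred_eq] at h h' ⊢
        rw [σmul, h', h]
      inv_mem' := fun {b} h => by
        simp only [Set.mem_ofPred_eq] at h ⊢
        nth_rw 1 [← h]
        rw [σinv] }
  exact (Subgroup.zpowers_le.2 (show a ∈ S from hv) : Subgroup.zpowers a ≤ S) hb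

/-- Maximal subgroups of `N` with non-zero fixed points. -/
def IsMax (N B : Subgroup H) : Prop :=
  B ≤ N ∧ R.fix B ≠ ⊥ ∧ ∀ B' : Subgroup H, B < B' → B' ≤ N → R.fix B' = ⊥

theorem fix_mp {τ : MulAut H} {s : AddMonoid.End W}
    (hs : ∀ h v, s (R.ρ h v) = R.ρ (τ h) (s v)) {B : Subgroup H} {v : W} (hv : v ∈ R.fix B) :
    s v ∈ R.fix (mp τ B) := by
  rintro _ ⟨y, hy, rfl⟩
  rw [mem_stab]
  change R.ρ (τ y) (s v) = s v
  rw [← hs, R.mem_fix.1 hv y hy]

theorem fix_act (a : A) {B : Subgroup H} {v : W} (hv : v ∈ R.fix B) :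
    R.σ a v ∈ R.fix (mp (φ a) B) := R.fix_mp (R.hσ a) hv

theorem isMax_mp {τ τ' : MulAut H} {s s' : AddMonoid.End W}
    (hs : ∀ h v, s (R.ρ h v) = R.ρ (τ h) (s v)) (hs' : ∀ h v, s' (R.ρ h v) = R.ρ (τ' h) (s' v))
    (hτ : ∀ x, τ (τ' x) = x) (hτ' : ∀ x, τ' (τ x) = x) (hss : ∀ v, s' (s v) = v)
    (hss' : ∀ v, s (s' v) = v) {N B : Subgroup H} (hN : ∀ x ∈ N, τ x ∈ N) (hN' : ∀ x ∈ N, τ' x ∈ N)
    (hB : R.IsMax N B) : R.IsMax N (mp τ B) := by
  refine ⟨?_, fun h => hB.2.1 ((AddSubgroup.eq_bot_iff_forall _).2 fun v hv => ?_),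
    fun B' hlt hle => ?_⟩
  · rintro _ ⟨y, hy, rfl⟩
    exact hN y (hB.1 hy)
  · have h1 := R.fix_mp hs hv
    rw [h, AddSubgroup.mem_bot] at h1
    rw [← hss v, h1, map_zero]
  · have hlt' : B < mp τ' B' := by
      refine lt_of_le_of_ne (fun b hb => ⟨τ b, hlt.le ⟨b, hb, rfl⟩, hτ' b⟩) fun he => hlt.ne ?_
      refine le_antisymm hlt.le fun x hx => ?_
      have : τ' x ∈ B := he ▸ ⟨x, hx, rfl⟩
      exact ⟨τ' x, this, hτ x⟩
    have hbot := hB.2.2 _ hlt' (by rintro _ ⟨y, hy, rfl⟩; exact hN' y (hle hy))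
    refine (AddSubgroup.eq_bot_iff_forall _).2 fun v hv => ?_
    have h1 := R.fix_mp hs' hv
    rw [hbot, AddSubgroup.mem_bot] at h1
    rw [← hss' v, h1, map_zero]

theorem isMax_act {N B : Subgroup H} (hN : Inv φ N) (a : A) (hB : R.IsMax N B) :
    R.IsMax N (mp (φ a) B) :=
  R.isMax_mp (τ' := φ a⁻¹) (s := R.σ a) (s' := R.σ a⁻¹) (R.hσ a) (R.hσ a⁻¹)
    (act_act_inv φ a) (act_inv_act φ a) (R.σinv a) (fun v => by simpa using R.σinv a⁻¹ v)
    (hN a) (hN a⁻¹) hB

theorem conj_comm (g h : H) (v : W) :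
    R.ρ g (R.ρ h v) = R.ρ (MulAut.conj g h) (R.ρ g v) := by
  rw [← ρmul, ← ρmul, MulAut.conj_apply]
  congr 2
  group

theorem fix_conj (g : H) {B : Subgroup H} {v : W} (hv : v ∈ R.fix B) :
    R.ρ g v ∈ R.fix (mp (MulAut.conj g) B) := R.fix_mp (R.conj_comm g) hv

theorem isMax_conj {N B : Subgroup H} (hNn : N.Normal) (g : H) (hB : R.IsMax N B) :
    R.IsMax N (mp (MulAut.conj g) B) :=
  R.isMax_mp (τ' := MulAut.conj g⁻¹) (s := R.ρ g) (s' := R.ρ g⁻¹) (R.conj_comm g) (R.conj_comm g⁻¹)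
    (fun x => by simp only [MulAut.conj_apply]; group)
    (fun x => by simp only [MulAut.conj_apply]; group)
    (R.ρinv g) (fun v => by simpa using R.ρinv g⁻¹ v)
    (fun x hx => by simpa using hNn.conj_mem x hx g)
    (fun x hx => by simpa using hNn.conj_mem x hx g⁻¹) hB

/-- The sum over a subgroup. -/
noncomputable def avg (B : Subgroup H) : W →+ W :=
  haveI := R.finH
  haveI := Fintype.ofFinite B
  ∑ b : B, R.ρ (b : H)

theorem avg_apply (B : Subgroup H) [Fintype B] (v : W) :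
    R.avg B v = ∑ b : B, R.ρ (b : H) v := by
  classical
  haveI := R.finH
  unfold avg
  rw [Subsingleton.elim (Fintype.ofFinite B) ‹_›]
  exact AddMonoidHom.finsetSum_apply _ _ v

theorem avg_of_fix {B : Subgroup H} {v : W} (hv : v ∈ R.fix B) :
    R.avg B v = Nat.card B • v := by
  classical
  haveI := R.finH
  haveI := Fintype.ofFinite B
  rw [avg_apply, Finset.sum_congr rfl (fun (b : B) _ => R.mem_fix.1 hv b b.2), Finset.sum_const,
    Finset.card_univ, Nat.card_eq_fintype_card]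

theorem avg_mem_fix (B : Subgroup H) (v : W) : R.avg B v ∈ R.fix B := by
  classical
  haveI := R.finH
  haveI := Fintype.ofFinite B
  intro g hg
  rw [mem_stab, avg_apply, map_sum]
  simp only [← ρmul]
  exact Fintype.sum_equiv (Equiv.mulLeft (⟨g, hg⟩ : B)) _ _ fun b => rfl

include R in
theorem coprime_abelian {N : Subgroup H} (hNn : N.Normal) (hNi : Inv φ N)
    (hNc : ∀ x ∈ N, ∀ y ∈ N, x * y = y * x) : (Nat.card N).Coprime (Nat.card W) := by
  refine R.cop N hNn hNi ?_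
  letI : CommGroup N :=
    { (inferInstance : Group N) with mul_comm := fun x y => Subtype.ext (hNc _ x.2 _ y.2) }
  exact CommGroup.isNilpotent

/-- An operator of prime order without fixed vectors on a stable set: an abelian subgroup is
centralized modulo the kernel. -/
theorem act_fix {c : A} {r : ℕ} (hr : r.Prime) (hc : orderOf c = r) {E : Subgroup H}
    (hEc : ∀ x ∈ E, ∀ y ∈ E, x * y = y * x) (hEi : ∀ x ∈ E, φ c x ∈ E)
    (hcop : (Nat.card E).Coprime (Nat.card W)) {U : AddSubgroup W}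
    (hUc : ∀ v ∈ U, R.σ c v ∈ U) (hUE : ∀ x ∈ E, ∀ v ∈ U, R.ρ x v ∈ U)
    (h0 : ∀ v ∈ U, R.σ c v = v → v = 0) {x : H} (hx : x ∈ E) {v : W} (hv : v ∈ U) :
    R.ρ (x * (φ c x)⁻¹) v = v := by
  classical
  haveI := R.finH
  haveI := R.finA
  haveI := Fintype.ofFinite E
  have hEi' : ∀ i : ℕ, ∀ y ∈ E, φ (c ^ i) y ∈ E := by
    intro i
    induction i with
    | zero => intro y hy; rwa [pow_zero, act_one]
    | succ i ih => intro y hy; rw [pow_succ, act_mul]; exact ih _ (hEi y hy)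
  have hUc' : ∀ i : ℕ, ∀ u ∈ U, R.σ (c ^ i) u ∈ U := by
    intro i
    induction i with
    | zero => intro u hu; rwa [pow_zero, σone]
    | succ i ih => intro u hu; rw [pow_succ, σmul]; exact ih _ (hUc u hu)
  let ψ : ℕ → H → H := fun i e => e * (φ (c ^ i) e)⁻¹
  have hψ : ∀ i, ∀ e ∈ E, ∀ f ∈ E, ψ i (e * f) = ψ i e * ψ i f := by
    intro i e he f hf
    simp only [ψ, map_mul, mul_inv_rev]
    calc e * f * ((φ (c ^ i) f)⁻¹ * (φ (c ^ i) e)⁻¹)
        = e * ((f * (φ (c ^ i) f)⁻¹) * (φ (c ^ i) e)⁻¹) := by group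
      _ = e * ((φ (c ^ i) e)⁻¹ * (f * (φ (c ^ i) f)⁻¹)) := by
          rw [hEc _ (mul_mem hf (inv_mem (hEi' i f hf))) _ (inv_mem (hEi' i e he))]
      _ = _ := by group
  -- every commutator with `c` is a commutator with a non-trivial power
  have himg : ∀ i, i ∈ Finset.range r → i ≠ 0 → ∃ e ∈ E, ψ i e = ψ 1 x := by
    intro i hi hi0
    obtain ⟨k, hk⟩ := exists_pow_eq_self_of_coprime (x := c) (n := i) (by
      rw [hc]
      exact (hr.coprime_iff_not_dvd.2
        (Nat.not_dvd_of_pos_of_lt (Nat.pos_of_ne_zero hi0) (Finset.mem_range.1 hi))).symm)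
    have h : ∀ m : ℕ, ∃ e ∈ E, ψ i e = ψ (i * m) x := by
      intro m
      induction m with
      | zero => exact ⟨1, one_mem E, by simp [ψ]⟩
      | succ m ih =>
        obtain ⟨e, he, hem⟩ := ih
        refine ⟨e * φ (c ^ (i * m)) x, mul_mem he (hEi' _ x hx), ?_⟩
        rw [hψ i e he _ (hEi' _ x hx), hem]
        simp only [ψ]
        rw [← act_mul φ (c ^ i), ← pow_add, Nat.mul_succ, add_comm (i * m) i]
        group
    obtain ⟨e, he, hem⟩ := h k
    exact ⟨e, he, by rw [hem]; simp only [ψ, pow_mul, hk, pow_one]⟩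
  -- the basic relation
  have hrel : ∀ e ∈ E, ∑ i ∈ Finset.range r, R.ρ (ψ i e) (R.σ (c ^ i) v) = 0 := by
    intro e he
    set u := R.ρ e⁻¹ v with hu
    have hw : R.σ c (∑ i ∈ Finset.range r, R.σ (c ^ i) u) =
        ∑ i ∈ Finset.range r, R.σ (c ^ i) u := by
      rw [map_sum]
      simp only [← σmul, ← pow_succ']
      have h1 := Finset.sum_range_succ' (fun j => R.σ (c ^ j) u) r
      have h2 := Finset.sum_range_succ (fun j => R.σ (c ^ j) u) r
      rw [h2, pow_zero, ← hc, pow_orderOf_eq_one, hc] at h1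
      exact (add_right_cancel h1).symm
    have h3 := congrArg (R.ρ e)
      (h0 _ (sum_mem fun i _ => hUc' i u (hUE _ (inv_mem he) v hv)) hw)
    rw [map_zero, map_sum] at h3
    rw [← h3]
    refine Finset.sum_congr rfl fun i _ => ?_
    rw [hu, R.hσ, ← ρmul]
    simp only [ψ, map_inv]
  have htot : ∑ i ∈ Finset.range r, ∑ e : E, R.ρ (ψ i (e : H)) (R.σ (c ^ i) v) = 0 := by
    rw [Finset.sum_comm]
    exact Finset.sum_eq_zero fun e _ => hrel e e.2
  have hm : x * (φ c x)⁻¹ = ψ 1 x := by simp only [ψ, pow_one]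
  have h4 := congrArg (fun w => R.ρ (ψ 1 x) w - w) htot
  simp only [map_zero, sub_zero, map_sum] at h4
  rw [← Finset.sum_sub_distrib, Finset.sum_eq_single 0] at h4
  · simp only [ψ, pow_zero, act_one, σone, mul_inv_cancel, ρone, Finset.sum_const,
      Finset.card_univ, ← Nat.card_eq_fintype_card, pow_one] at h4
    rw [← sub_eq_zero]
    exact R.eq_zero_of_nsmul hcop (by rw [nsmul_sub]; exact h4)
  · intro i hi hi0
    obtain ⟨e₀, he₀, he⟩ := himg i hi hi0
    rw [sub_eq_zero]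
    refine Fintype.sum_equiv (Equiv.mulLeft (⟨e₀, he₀⟩ : E)) _ _ fun e => ?_
    rw [← ρmul, ← he]
    exact congrArg (fun z => R.ρ z (R.σ (c ^ i) v)) (hψ i e₀ he₀ e e.2).symm
  · intro h
    exact absurd (Finset.mem_range.2 hr.pos) h

section Abelian

variable {N : Subgroup H} (hNn : N.Normal) (hNi : Inv φ N)
  (hNc : ∀ x ∈ N, ∀ y ∈ N, x * y = y * x)

include R

include hNn hNi hNc in
theorem eq_zero_card {B : Subgroup H} (hB : B ≤ N) {v : W} (hv : Nat.card B • v = 0) : v = 0 :=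
  R.eq_zero_of_nsmul ((R.coprime_abelian hNn hNi hNc).coprime_dvd_left (Subgroup.card_dvd_of_le hB))
    hv

include hNc in
theorem avg_of_ne {B B' : Subgroup H} (hB : R.IsMax N B) (hB' : R.IsMax N B') (hne : B ≠ B')
    {v : W} (hv : v ∈ R.fix B') : R.avg B v = 0 := by
  classical
  haveI := R.finH
  haveI := Fintype.ofFinite B
  have h1 : R.avg B v ∈ R.fix B' := by
    intro g hg
    rw [mem_stab, avg_apply, map_sum]
    refine Finset.sum_congr rfl fun b _ => ?_
    rw [← ρmul, hNc g (hB'.1 hg) b (hB.1 b.2), ρmul, R.mem_fix.1 hv g hg]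
  have hlt : B < B ⊔ B' := by
    refine left_lt_sup.2 fun hle => ?_
    exact hB.2.1 (hB'.2.2 B (lt_of_le_of_ne hle (Ne.symm hne)) hB.1)
  have h2 := R.fix_sup (R.avg_mem_fix B v) h1
  rw [hB.2.2 _ hlt (sup_le hB.1 hB'.1)] at h2
  exact AddSubgroup.mem_bot.1 h2

include hNn hNi hNc in
theorem disjoint {B B' : Subgroup H} (hB : R.IsMax N B) (hB' : R.IsMax N B') (hne : B ≠ B')
    {v : W} (hv : v ∈ R.fix B) (hv' : v ∈ R.fix B') : v = 0 :=
  R.eq_zero_card hNn hNi hNc hB.1
    (by rw [← R.avg_of_fix hv, R.avg_of_ne hNc hB hB' hne hv'])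

theorem eq_zero_of_fixed {B : Subgroup H} (hB : R.IsMax N B) {g : H} (hg : g ∈ N) (hgB : g ∉ B)
    {u : W} (hu : u ∈ R.fix B) (hgu : R.ρ g u = u) : u = 0 := by
  have h1 := R.fix_sup_zpowers hu hgu
  rw [hB.2.2 _ (left_lt_sup.2 fun h => hgB (h (Subgroup.mem_zpowers g)))
    (sup_le hB.1 (Subgroup.zpowers_le.2 hg))] at h1
  exact AddSubgroup.mem_bot.1 h1

theorem mem_of_fix_all {B : Subgroup H} (hB : R.IsMax N B) {g : H} (hg : g ∈ N)
    (h : ∀ u ∈ R.fix B, R.ρ g u = u) : g ∈ B :=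
  by_contra fun hgB => hB.2.1 ((AddSubgroup.eq_bot_iff_forall _).2 fun u hu =>
    R.eq_zero_of_fixed hB hg hgB hu (h u hu))

include hNc in
theorem fix_stable {B : Subgroup H} (hB : B ≤ N) {x : H} (hx : x ∈ N) {v : W}
    (hv : v ∈ R.fix B) : R.ρ x v ∈ R.fix B := fun g hg => by
  rw [mem_stab, ← ρmul, hNc g (hB hg) x hx, ρmul, R.mem_fix.1 hv g hg]

include hNn hNi hNc in
/-- No non-zero vector of a component is fixed by all operators stabilizing it. -/
theorem no_fixed {B : Subgroup H} (hB : R.IsMax N B) {v : W} (hv : v ∈ R.fix B)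
    (hstab : ∀ a ∈ opStab φ B, R.σ a v = v) : v = 0 := by
  classical
  haveI := R.finA
  haveI := R.finH
  haveI := Fintype.ofFinite A
  have hS : ∑ a : A, R.σ a v = 0 := by
    refine R.fpf _ fun b => ?_
    rw [map_sum]
    exact Fintype.sum_equiv (Equiv.mulLeft b) _ _ fun a => (R.σmul b a v).symm
  have h1 := congrArg (R.avg B) hS
  rw [map_sum, map_zero, ← Finset.sum_filter_add_sum_filter_not _ (· ∈ opStab φ B),
    Finset.sum_congr rfl fun a ha => by rw [hstab a (Finset.mem_filter.1 ha).2, R.avg_of_fix hv],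
    Finset.sum_eq_zero (s := Finset.univ.filter fun a => ¬ a ∈ opStab φ B) fun a ha =>
      R.avg_of_ne hNc hB (R.isMax_act hNi a hB)
        (fun e => (Finset.mem_filter.1 ha).2 e.symm) (R.fix_act a hv),
    add_zero, Finset.sum_const, ← Fintype.card_subtype, ← Nat.card_eq_fintype_card] at h1
  refine R.eq_zero_card hNn hNi hNc hB.1 (R.eq_zero_of_nsmul ?_ h1)
  exact R.copA.coprime_dvd_left (Subgroup.card_subgroup_dvd_card (opStab φ B))

include hNn hNi hNc in
theorem opStab_ne_bot {B : Subgroup H} (hB : R.IsMax N B) : opStab φ B ≠ ⊥ := fun h =>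
  hB.2.1 ((AddSubgroup.eq_bot_iff_forall _).2 fun v hv => R.no_fixed hNn hNi hNc hB hv
    fun a ha => by rw [h, Subgroup.mem_bot] at ha; rw [ha, R.σone])

include hNn hNi in
theorem fix_eq_bot [Nontrivial N] : R.fix N = ⊥ := by
  rcases R.irred (R.fix N)
    (fun h v hv n hn => by
      rw [mem_stab]
      have h1 := R.conj_comm h (MulAut.conj h⁻¹ n) v
      rw [show MulAut.conj h (MulAut.conj h⁻¹ n) = n by simp only [MulAut.conj_apply]; group,
        R.mem_fix.1 hv _ (by simpa using hNn.conj_mem n hn h⁻¹)] at h1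
      exact h1.symm)
    (fun a v hv n hn => by
      rw [mem_stab]
      have h1 := R.hσ a (φ a⁻¹ n) v
      rw [R.mem_fix.1 hv _ (hNi a⁻¹ n hn), act_act_inv] at h1
      exact h1.symm) with h | h
  · exact h
  · exfalso
    obtain ⟨x, hx⟩ := exists_ne (1 : N)
    exact hx (Subtype.ext (R.faithful x fun v => R.mem_fix.1 (h ▸ AddSubgroup.mem_top v) x x.2))

include hNn hNi in
theorem isMax_lt [Nontrivial N] {B : Subgroup H} (hB : R.IsMax N B) : ¬ N ≤ B := fun h =>
  hB.2.1 (le_antisymm hB.1 h ▸ R.fix_eq_bot hNn hNi)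

theorem exists_max [Nontrivial W] : ∃ B, R.IsMax N B := by
  haveI := R.finH
  have hW : R.fix (⊥ : Subgroup H) ≠ ⊥ := by
    intro h
    obtain ⟨v, hv⟩ := exists_ne (0 : W)
    refine hv ?_
    have hv' : v ∈ R.fix (⊥ : Subgroup H) := fun g hg => by
      rw [Subgroup.mem_bot.1 hg]; exact one_mem _
    rwa [h, AddSubgroup.mem_bot] at hv'
  obtain ⟨B, ⟨h1, h2⟩, hmax⟩ := Set.Finite.exists_maximal
    (s := {B : Subgroup H | B ≤ N ∧ R.fix B ≠ ⊥}) (Set.toFinite _) ⟨⊥, bot_le, hW⟩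
  exact ⟨B, h1, h2, fun B' hlt hle => by_contra fun h => hlt.not_ge (hmax ⟨hle, h⟩ hlt.le)⟩

/-- The additive subgroup generated by the fixed points over a stable family. -/
theorem family_top {S : Set (Subgroup H)} (hne : ∃ B ∈ S, R.fix B ≠ ⊥)
    (hc : ∀ B ∈ S, ∀ h, mp (MulAut.conj h) B ∈ S) (ha : ∀ B ∈ S, ∀ a, mp (φ a) B ∈ S) :
    AddSubgroup.closure {v : W | ∃ B ∈ S, v ∈ R.fix B} = ⊤ := by
  set U := AddSubgroup.closure {v : W | ∃ B ∈ S, v ∈ R.fix B}
  have key : ∀ (s : AddMonoid.End W) (τ : MulAut H), (∀ h v, s (R.ρ h v) = R.ρ (τ h) (s v)) →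
      (∀ B ∈ S, mp τ B ∈ S) → ∀ v ∈ U, s v ∈ U := by
    intro s τ hs hτ v hv
    refine (AddSubgroup.closure_le (K := U.comap s)).2 ?_ hv
    rintro u ⟨B, hB, hu⟩
    exact AddSubgroup.subset_closure ⟨_, hτ B hB, R.fix_mp hs hu⟩
  refine (R.irred U (fun h => key _ (MulAut.conj h) (R.conj_comm h) fun B hB => hc B hB h)
    (fun a => key _ (φ a) (R.hσ a) fun B hB => ha B hB a)).resolve_left fun h => ?_
  obtain ⟨B, hB, hB0⟩ := hne
  refine hB0 ((AddSubgroup.eq_bot_iff_forall _).2 fun v hv => ?_)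
  have : v ∈ U := AddSubgroup.subset_closure ⟨B, hB, hv⟩
  rwa [h, AddSubgroup.mem_bot] at this

theorem kill {S : Set (Subgroup H)} (hne : ∃ B ∈ S, R.fix B ≠ ⊥)
    (hc : ∀ B ∈ S, ∀ h, mp (MulAut.conj h) B ∈ S) (ha : ∀ B ∈ S, ∀ a, mp (φ a) B ∈ S)
    {g : H} (hg : ∀ B ∈ S, ∀ v ∈ R.fix B, R.ρ g v = v) : g = 1 := by
  refine R.faithful g fun v => ?_
  have hv : v ∈ AddSubgroup.closure {v : W | ∃ B ∈ S, v ∈ R.fix B} :=
    R.family_top hne hc ha ▸ AddSubgroup.mem_top v
  induction hv using AddSubgroup.closure_induction with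
  | mem u hu => obtain ⟨B, hB, hu⟩ := hu; exact hg B hB u hu
  | zero => rw [map_zero]
  | add u w _ _ h1 h2 => rw [map_add, h1, h2]
  | neg u _ h1 => rw [map_neg, h1]

include hNn hNi in
theorem kill_all {g : H} [Nontrivial W]
    (hg : ∀ B, R.IsMax N B → ∀ v ∈ R.fix B, R.ρ g v = v) : g = 1 := by
  obtain ⟨B, hB⟩ := R.exists_max (N := N)
  exact R.kill (S := {B | R.IsMax N B}) ⟨B, hB, hB.2.1⟩
    (fun B hB h => R.isMax_conj hNn h hB) (fun B hB a => R.isMax_act hNi a hB) hg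

/-- A component stable under everything is trivial. -/
theorem eq_bot_of_stable {B : Subgroup H} (hB : R.IsMax N B)
    (hc : ∀ h, mp (MulAut.conj h) B = B) (ha : ∀ a, mp (φ a) B = B) : B = ⊥ := by
  rw [eq_bot_iff]
  intro b hb
  rw [Subgroup.mem_bot]
  exact R.kill (S := {B}) ⟨B, rfl, hB.2.1⟩ (by rintro _ rfl h; exact hc h)
    (by rintro _ rfl a; exact ha a) fun C hC v hv => by
      rw [Set.mem_singleton_iff] at hC
      subst hC
      exact R.mem_fix.1 hv b hb

/-- An abelian group acting freely on a component modulo its kernel is cyclic modulo the kernel. -/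
theorem exists_generator {E B : Subgroup H} (hEc : ∀ x ∈ E, ∀ y ∈ E, x * y = y * x) (hBE : B ≤ E)
    {U : AddSubgroup W} (hUE : ∀ x ∈ E, ∀ v ∈ U, R.ρ x v ∈ U) (hUB : U ≤ R.fix B) (hne : U ≠ ⊥)
    (hcop : (Nat.card E).Coprime (Nat.card W))
    (hfree : ∀ g ∈ E, g ∉ B → ∀ u ∈ U, R.ρ g u = u → u = 0) :
    ∃ g ∈ E, ∀ x ∈ E, ∃ k : ℕ, x * (g ^ k)⁻¹ ∈ B := by
  haveI := R.finH
  haveI := R.finW
  letI : CommGroup E :=
    { (inferInstance : Group E) with mul_comm := fun x y => Subtype.ext (hEc _ x.2 _ y.2) }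
  let K := B.subgroupOf E
  let act : E →* MulAut (Multiplicative U) :=
    { toFun := fun x =>
        { toFun := fun u => Multiplicative.ofAdd ⟨R.ρ (x : H) (u.toAdd : U), hUE _ x.2 _ u.toAdd.2⟩
          invFun := fun u =>
            Multiplicative.ofAdd ⟨R.ρ (x : H)⁻¹ (u.toAdd : U), hUE _ (inv_mem x.2) _ u.toAdd.2⟩
          left_inv := fun u => congrArg Multiplicative.ofAdd (Subtype.ext (R.ρinv _ _))
          right_inv := fun u => congrArg Multiplicative.ofAdd (Subtype.ext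
            (show R.ρ (x : H) (R.ρ (x : H)⁻¹ ((u.toAdd : U) : W)) = ((u.toAdd : U) : W) by
              rw [← R.ρmul, mul_inv_cancel, R.ρone]))
          map_mul' := fun u w => congrArg Multiplicative.ofAdd (Subtype.ext (map_add _ _ _)) }
      map_one' := MulEquiv.ext fun u => congrArg Multiplicative.ofAdd (Subtype.ext (R.ρone _))
      map_mul' := fun x y => MulEquiv.ext fun u =>
        congrArg Multiplicative.ofAdd (Subtype.ext (R.ρmul _ _ _)) }
  have hact : ∀ (x : E) (u : Multiplicative U),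
      (((act x u).toAdd : U) : W) = R.ρ (x : H) (u.toAdd : U) := fun _ _ => rfl
  let θ : E ⧸ K →* MulAut (Multiplicative U) := QuotientGroup.lift K act fun x hx =>
    MulEquiv.ext fun u => congrArg Multiplicative.ofAdd
      (Subtype.ext (R.mem_fix.1 (hUB u.toAdd.2) _ hx))
  by_cases hcyc : IsCyclic (E ⧸ K)
  · obtain ⟨g, hg⟩ := hcyc.exists_generator
    obtain ⟨g, rfl⟩ := QuotientGroup.mk_surjective g
    refine ⟨g, g.2, fun x hx => ?_⟩
    obtain ⟨k, hk⟩ := (isOfFinOrder_of_finite (g : E ⧸ K)).mem_powers_iff_mem_zpowers.2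
      (hg ((⟨x, hx⟩ : E) : E ⧸ K))
    refine ⟨k, ?_⟩
    have hk' : ((g ^ k : E) : E ⧸ K) = ((⟨x, hx⟩ : E) : E ⧸ K) := hk
    have h1 : (g ^ k)⁻¹ * ⟨x, hx⟩ ∈ K := QuotientGroup.eq.1 hk'
    rw [mul_comm] at h1
    exact h1
  · exfalso
    obtain ⟨q, E₀, hq, hE₀, hexp⟩ := CoprimeAct.exists_elementary_of_not_isCyclic hcyc
    have hcard : Nat.card (Multiplicative U) = Nat.card U :=
      Nat.card_congr Multiplicative.toAdd
    have hdvd : q ∣ Nat.card E :=
      ((dvd_pow_self q two_ne_zero).trans (hE₀ ▸ Subgroup.card_subgroup_dvd_card E₀)).trans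
        (Subgroup.card_quotient_dvd_card K)
    have h := CoprimeAct.generated_by_fixed hq hE₀ hexp (θ.comp E₀.subtype)
      (hcard ▸ (hcop.coprime_dvd_left hdvd).coprime_dvd_right (AddSubgroup.card_addSubgroup_dvd_card U))
      ⊥ fun e w he hw => by
        obtain ⟨x, hx⟩ := QuotientGroup.mk_surjective (e : E ⧸ K)
        have hxB : (x : H) ∉ B := fun hxB => he (Subtype.ext (by
          rw [Subgroup.coe_one, ← hx, QuotientGroup.eq_one_iff]
          exact hxB))
        have hw' : act x w = w := by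
          have : θ (e : E ⧸ K) w = w := hw
          rwa [← hx] at this
        rw [Subgroup.mem_bot]
        exact congrArg Multiplicative.ofAdd (Subtype.ext (hfree _ x.2 hxB _ w.toAdd.2
          (by rw [← hact, hw'])) : w.toAdd = 0)
    refine hne ((AddSubgroup.eq_bot_iff_forall _).2 fun u hu => ?_)
    have : Multiplicative.ofAdd (⟨u, hu⟩ : U) ∈ (⊥ : Subgroup (Multiplicative U)) := by
      rw [h]; trivial
    rw [Subgroup.mem_bot] at this
    exact congrArg Subtype.val (Multiplicative.ofAdd.injective this : (⟨u, hu⟩ : U) = 0)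

end Abelian

end Rep

end Cfsg.Agent.OpFpf
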